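import Groth.Agent.Lib.RankCell14.Basic
import Groth.Agent.Lib.CharFib14.Basic
import Groth.Agent.Lib.DiagGrp.BaseChange
import Groth.Agent.Lib.TorusNorm25.Torus
import Groth.Agent.Lib.EssFree.Transporter
import Groth.Agent.Lib.QuotTorus14.Split
import Groth.Agent.Lib.DiagGrp.FlatSubgroupScheme
import Mathlib.RingTheory.FiniteType

/-!
Homomorphisms from the additive group equivariant for a torus: weight spaces inside the big cell.
-/

universe u

open CategoryTheory MonoidalCategory CartesianMonoidalCategory MonObj GrpObj AlgebraicGeometry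
open CategoryTheory.Limits Opposite

set_option backward.isDefEq.respectTransparency false

namespace GrothLib.RankCell14

open GrothLib.RedPts GrothLib.RankOne

variable {S : Scheme.{u}}

theorem lft_Ga (S : Scheme.{u}) : LocallyOfFiniteType (Red.Ga S).hom := by
  haveI : Algebra.FiniteType (ULift.{u} ℤ) (SymmetricAlgebra (ULift.{u} ℤ) (ULift.{u} ℤ)) :=
    Algebra.FiniteType.of_surjective (Polynomial.aeval (R := ULift.{u} ℤ)
      (SymmetricAlgebra.ι (ULift.{u} ℤ) (ULift.{u} ℤ) (1 : ULift.{u} ℤ))) (by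
      intro y
      induction y using SymmetricAlgebra.induction with
      | algebraMap r => exact ⟨Polynomial.C r, Polynomial.aeval_C _ _⟩
      | «ι» r =>
        refine ⟨Polynomial.C r * Polynomial.X, ?_⟩
        rw [map_mul, Polynomial.aeval_C, Polynomial.aeval_X, ← Algebra.smul_def, ← map_smul, smul_eq_mul,
          _root_.mul_one]
      | mul c d hc hd =>
        obtain ⟨c', rfl⟩ := hc
        obtain ⟨d', rfl⟩ := hd
        exact ⟨c' * d', map_mul _ _ _⟩
      | add c d hc hd =>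
        obtain ⟨c', rfl⟩ := hc
        obtain ⟨d', rfl⟩ := hd
        exact ⟨c' + d', map_add _ _ _⟩)
  haveI : LocallyOfFiniteType Red.GaZ.{u}.hom :=
    (HasRingHomProperty.Spec_iff (P := @LocallyOfFiniteType)).mpr (RingHom.finiteType_algebraMap.mpr inferInstance)
  exact inferInstanceAs (LocallyOfFiniteType (pullback.snd Red.GaZ.hom _))

theorem gaPt_comp {X' X : Over S} (h : X' ⟶ X) (a : Γ(X.left, ⊤)) :
    h ≫ (gaPt a : X ⟶ Red.Ga S) = gaPt (h.left.appTop a) :=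
  gaFn_injective (by rw [gaFn_comp, gaFn_gaPt, gaFn_gaPt])

theorem gaPt_gaFn {X : Over S} (x : X ⟶ Red.Ga S) : gaPt (Red.gaFn x) = x :=
  gaFn_injective (gaFn_gaPt _)

theorem gaPt_zero {X : Over S} : (gaPt (0 : Γ(X.left, ⊤)) : X ⟶ Red.Ga S) = 1 :=
  gaFn_injective ((gaFn_gaPt _).trans gaFn_one.symm)

theorem gmFn_pow {X : Over S} (z : X ⟶ Red.Gm S) (n : ℕ) : Red.gmFn (z ^ n) = Red.gmFn z ^ n := by
  induction n with
  | zero => rw [pow_zero, pow_zero, GmPts.gmFn_one]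
  | succ n ih => rw [pow_succ, pow_succ, GmPts.gmFn_mul, ih]

/-- A point of a torus with given value of a character non-trivial on every fibre, over an algebraically
closed field. -/
theorem exists_pt_over {Q : Over S} [GrpObj Q] [LocallyOfFiniteType Q.hom] (β : Q ⟶ Red.Gm S) [Surjective β.left]
    (s : S) (z : Over.mk (Red.geomPt s) ⟶ Red.Gm S) : ∃ t : Over.mk (Red.geomPt s) ⟶ Q, t ≫ β = z := by
  haveI : LocallyOfFiniteType (β.left ≫ (Red.Gm S).hom) := by rw [Over.w β]; infer_instance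
  haveI : LocallyOfFiniteType β.left := locallyOfFiniteType_of_comp β.left (Red.Gm S).hom
  let p : pullback β.left z.left ⟶ Spec (CommRingCat.of (AlgebraicClosure (S.residueField s))) :=
    pullback.snd β.left z.left
  haveI : LocallyOfFiniteType p := inferInstanceAs (LocallyOfFiniteType (pullback.snd β.left z.left))
  haveI : Surjective p := inferInstanceAs (Surjective (pullback.snd β.left z.left))
  obtain ⟨w, -⟩ := p.surjective (IsLocalRing.closedPoint (AlgebraicClosure (S.residueField s)))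
  obtain ⟨q, hq, -⟩ := GrothLib.CentralTor14.exists_pt p ⊤ ⟨w, trivial⟩
  have hq' : q ≫ pullback.snd β.left z.left = 𝟙 _ := hq
  refine ⟨Over.homMk (q ≫ pullback.fst β.left z.left) ?_, Over.OverMorphism.ext ?_⟩
  · rw [← Over.w β, Category.assoc, pullback.condition_assoc, reassoc_of% hq']
    exact Over.w z
  · change (q ≫ pullback.fst β.left z.left) ≫ β.left = z.left
    rw [Category.assoc, pullback.condition, reassoc_of% hq']

variable {G T Q : Over S} [GrpObj G] [GrpObj T] [GrpObj Q] (i : T ⟶ G) [IsMonHom i] (hT : Red.IsTorus T)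
  (j : Q ⟶ T) [IsMonHom j] (hQ : Red.IsTorus Q) (α : T ⟶ Red.Gm S) [IsMonHom α]
  (hα : ∀ s : S, (Over.pullback (Red.geomPt s)).map (j ≫ α) ≠ 1)
  (pp pm : Red.Ga S ⟶ G) [IsMonHom pp] [IsMonHom pm]
  (hpp : ∀ (X : Over S) (t : X ⟶ T) (x : X ⟶ Red.Ga S), ∃ x' : X ⟶ Red.Ga S,
    x' ≫ pp = (t ≫ i) * (x ≫ pp) * (t ≫ i)⁻¹ ∧ Red.gaFn x' = Red.gmFn (t ≫ α) * Red.gaFn x)
  (hpm : ∀ (X : Over S) (t : X ⟶ T) (y : X ⟶ Red.Ga S), ∃ y' : X ⟶ Red.Ga S,
    y' ≫ pm = (t ≫ i) * (y ≫ pm) * (t ≫ i)⁻¹ ∧ Red.gaFn y' * Red.gmFn (t ≫ α) = Red.gaFn y)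

include hT hpp hpm in
/-- Conjugation of a point of the cell by a point of the torus. -/
theorem conj_coords {X : Over S} (s t : X ⟶ T) (y x : X ⟶ Red.Ga S) :
    ∃ y' x' : X ⟶ Red.Ga S,
      (s ≫ i) * ((y ≫ pm) * (t ≫ i) * (x ≫ pp)) * (s ≫ i)⁻¹ = (y' ≫ pm) * (t ≫ i) * (x' ≫ pp) ∧
        Red.gaFn y' * Red.gmFn (s ≫ α) = Red.gaFn y ∧ Red.gaFn x' = Red.gmFn (s ≫ α) * Red.gaFn x := by
  obtain ⟨y', hy1, hy2⟩ := hpm X s y
  obtain ⟨x', hx1, hx2⟩ := hpp X s x
  refine ⟨y', x', ?_, hy2, hx2⟩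
  have hc : (s ≫ i) * (t ≫ i) = (t ≫ i) * (s ≫ i) := by
    rw [← MonObj.mul_comp, ← MonObj.mul_comp,
      GrothLib.DiagGrp.mul_comm_of_charts (GrothLib.DiagGrp.hasChartsFpqc_of_isTorus hT) X s t]
  rw [hy1, hx1]
  calc _ = (s ≫ i) * (y ≫ pm) * (s ≫ i)⁻¹ * ((s ≫ i) * (t ≫ i) * (s ≫ i)⁻¹) *
        ((s ≫ i) * (x ≫ pp) * (s ≫ i)⁻¹) := by group
    _ = _ := by rw [hc, mul_inv_cancel_right]

variable [IsOpenImmersion (cell i pp pm).left] (q : ℕ) (p : Red.Ga S ⟶ G) [IsMonHom p]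
  (hp : ∀ (X : Over S) (t : X ⟶ Q) (x x' : X ⟶ Red.Ga S), Red.gaFn x' = Red.gmFn (t ≫ j ≫ α) * Red.gaFn x →
    x' ≫ p = ((t ≫ j ≫ i) ^ q) * (x ≫ p) * ((t ≫ j ≫ i) ^ q)⁻¹)

omit [IsOpenImmersion (cell i pp pm).left] in
theorem pow_pt {X : Over S} (t : X ⟶ Q) :
    ((t ≫ j) ^ q) ≫ i = (t ≫ j ≫ i) ^ q ∧ Red.gmFn (((t ≫ j) ^ q) ≫ α) = Red.gmFn (t ≫ j ≫ α) ^ q := by
  constructor
  · rw [show ((t ≫ j) ^ q) ≫ i = ((t ≫ j) ≫ i) ^ q from map_pow (postHom i X) _ q, Category.assoc]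
  · rw [show ((t ≫ j) ^ q) ≫ α = ((t ≫ j) ≫ α) ^ q from map_pow (postHom α X) _ q, Category.assoc, gmFn_pow]

include hT hQ hα hpp hpm hp in
/-- An equivariant homomorphism lands in the cell. -/
theorem mem_cell (z : (Red.Ga S).left) : p.left.base z ∈ Set.range (cell i pp pm).left.base := by
  haveI := lft_Ga S
  haveI : Flat (j ≫ α).left ∧ Surjective (j ≫ α).left :=
    GrothLib.CharFib14.flat_surjective_of_base_changes hQ (j ≫ α)
      (fun S' g hS' => GrothLib.CharFib14.ne_one_of_geomFibres (j ≫ α) hα g hS')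
  haveI : Surjective (j ≫ α).left := this.2
  haveI := TorusNorm25.smooth_of_isTorus hQ
  refine mem_of_geomPts (p.left.base ⁻¹' Set.range (cell i pp pm).left.base)
    ((cell i pp pm).left.isOpenEmbedding.isOpen_range.preimage p.left.continuous) (fun s x₀ => ?_) z
  let K := AlgebraicClosure (S.residueField s)
  rw [Set.mem_preimage, ← Scheme.Hom.comp_apply, ← Over.comp_left]
  have h1 : ∀ z, (1 : Over.mk (Red.geomPt s) ⟶ G).left.base z ∈ Set.range (cell i pp pm).left.base :=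
    mem_range_cell i pp pm (y := 1) (t := 1) (x := 1) (by simp [MonObj.one_comp])
  have hf : ∀ a : Γ((Over.mk (Red.geomPt s)).left, ⊤), IsUnit a ∨ a = 0 := fun a => isUnit_or_eq_zero (K := K) a
  rcases hf (Red.gaFn x₀) with hu | h0
  swap
  · rw [show x₀ = 1 from gaFn_injective (h0.trans gaFn_one.symm), MonObj.one_comp]
    exact h1 _
  -- the affine line over the geometric point
  let P : CommRingCat.{u} := CommRingCat.of (Polynomial K)
  let cK : CommRingCat.of K ⟶ P := CommRingCat.ofHom Polynomial.C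
  haveI : LocallyOfFiniteType (Spec.map cK) :=
    (HasRingHomProperty.Spec_iff (P := @LocallyOfFiniteType)).mpr (by
      have : Algebra.FiniteType K (Polynomial K) := inferInstance
      exact RingHom.finiteType_algebraMap.mpr this)
  haveI : IrreducibleSpace (Spec P) := inferInstanceAs (IrreducibleSpace (PrimeSpectrum (Polynomial K)))
  let A : Over S := Over.mk (Spec.map cK ≫ Red.geomPt s)
  haveI : IrreducibleSpace A.left := inferInstanceAs (IrreducibleSpace (Spec P))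
  let X₀ : Γ(A.left, ⊤) := (Scheme.ΓSpecIso P).inv (Polynomial.X : Polynomial K)
  let σ : ∀ c : K, Over.mk (Red.geomPt s) ⟶ A := fun c => Over.homMk (Spec.map (CommRingCat.ofHom
    (Polynomial.evalRingHom c))) (by
      change Spec.map _ ≫ Spec.map cK ≫ Red.geomPt s = Red.geomPt s
      rw [← Category.assoc, ← Spec.map_comp,
        show cK ≫ CommRingCat.ofHom (Polynomial.evalRingHom c) = 𝟙 _ from by ext x; exact Polynomial.eval_C,
        Spec.map_id, Category.id_comp])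
  have hσ : ∀ c, (σ c).left.appTop X₀ = (Scheme.ΓSpecIso (CommRingCat.of K)).inv c := fun c =>
    (specMap_appTop _ _).trans (congrArg _ Polynomial.eval_X)
  let ξ : A ⟶ Red.Ga S := gaPt X₀
  obtain ⟨w, hw, hwX⟩ : ((ξ ≫ p).left.base ⁻¹' Set.range (cell i pp pm).left.base ∩
      (A.left.basicOpen X₀ : Set A.left)).Nonempty := by
    refine nonempty_preirreducible_inter
      ((cell i pp pm).left.isOpenEmbedding.isOpen_range.preimage (ξ ≫ p).left.continuous)
      (A.left.basicOpen X₀).2 ?_ ?_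
    · refine ⟨(σ 0).left.base (IsLocalRing.closedPoint K), ?_⟩
      rw [Set.mem_preimage, ← Scheme.Hom.comp_apply, ← Over.comp_left, ← Category.assoc, gaPt_comp, hσ, map_zero,
        gaPt_zero, MonObj.one_comp]
      exact h1 _
    · refine ⟨(σ 1).left.base (IsLocalRing.closedPoint K), ?_⟩
      change IsLocalRing.closedPoint K ∈ (σ 1).left ⁻¹ᵁ A.left.basicOpen X₀
      rw [Scheme.preimage_basicOpen_top, hσ, map_one, Scheme.basicOpen_of_isUnit _ isUnit_one]
      trivial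
  let U : A.left.Opens := ⟨(ξ ≫ p).left.base ⁻¹' Set.range (cell i pp pm).left.base ∩
      (A.left.basicOpen X₀ : Set A.left),
    ((cell i pp pm).left.isOpenEmbedding.isOpen_range.preimage (ξ ≫ p).left.continuous).inter
      (A.left.basicOpen X₀).2⟩
  obtain ⟨r, hr, hrU⟩ := GrothLib.CentralTor14.exists_pt (Spec.map cK) U ⟨w, hw, hwX⟩
  let ρ : Over.mk (Red.geomPt s) ⟶ A := Over.homMk r (by
    change r ≫ Spec.map cK ≫ Red.geomPt s = Red.geomPt s
    rw [reassoc_of% hr])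
  let x₁ := ρ ≫ ξ
  have hx₁ : IsUnit (Red.gaFn x₁) := by
    rcases hf (Red.gaFn x₁) with h | h
    · exact h
    · exfalso
      have h2 : IsLocalRing.closedPoint K ∈ ρ.left ⁻¹ᵁ A.left.basicOpen X₀ := hrU.2
      rw [Scheme.preimage_basicOpen_top, show ρ.left.appTop X₀ = Red.gaFn x₁ by
        rw [gaFn_comp, gaFn_gaPt], h, Scheme.basicOpen_zero] at h2
      exact h2
  obtain ⟨c₀, hc₀⟩ := hu
  obtain ⟨c₁, hc₁⟩ := hx₁
  obtain ⟨t, ht⟩ := exists_pt_over (j ≫ α) s (GmPts.ptOfUnit (c₀ * c₁⁻¹))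
  have hx : x₀ ≫ p = ((t ≫ j ≫ i) ^ q) * (x₁ ≫ p) * ((t ≫ j ≫ i) ^ q)⁻¹ := by
    refine hp _ t x₁ x₀ ?_
    rw [ht, GmPts.gmFn_ptOfUnit, ← hc₀, ← hc₁, Units.val_mul, Units.inv_mul_cancel_right]
  obtain ⟨y, t₁, x, hco⟩ := exists_coords i pp pm (x₁ ≫ p) (fun z => by
    rw [Subsingleton.elim (α := PrimeSpectrum K) z (IsLocalRing.closedPoint K), show x₁ ≫ p = ρ ≫ ξ ≫ p from
      Category.assoc _ _ _, Over.comp_left, Scheme.Hom.comp_apply]
    exact hrU.1)
  obtain ⟨y', x', he, -, -⟩ := conj_coords i hT α pp pm hpp hpm ((t ≫ j) ^ q) t₁ y x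
  rw [(pow_pt i j α q t).1, ← hco, ← hx] at he
  exact mem_range_cell i pp pm he _

include hT hQ hα hpp hpm hp in
/-- The weight theorem: such a homomorphism is `x ↦ pp (ν x ^ q)`. -/
theorem existsUnique_weight :
    ∃! ν : 𝟙_ (Over S) ⟶ Red.Ga S, ∀ (X : Over S) (x y : X ⟶ Red.Ga S),
      Red.gaFn y = Red.gaFn (toUnit X ≫ ν) * Red.gaFn x ^ q → x ≫ p = y ≫ pp := by
  obtain ⟨y₀, t₀, x₀, hpc⟩ := exists_coords i pp pm p (mem_cell i hT j hQ α hα pp pm hpp hpm q p hp)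
  let A : ∀ (X : Over S), Γ(X.left, ⊤) → Γ(X.left, ⊤) := fun X a => Red.gaFn ((gaPt a : X ⟶ Red.Ga S) ≫ y₀)
  let C : ∀ (X : Over S), Γ(X.left, ⊤) → Γ(X.left, ⊤) := fun X a => Red.gaFn ((gaPt a : X ⟶ Red.Ga S) ≫ x₀)
  let B : ∀ (X : Over S), Γ(X.left, ⊤) → (X ⟶ T) := fun X a => (gaPt a : X ⟶ Red.Ga S) ≫ t₀
  have hAn : ∀ {X' X : Over S} (h : X' ⟶ X) a, h.left.appTop (A X a) = A X' (h.left.appTop a) := fun h a => by
    simp only [A, ← gaFn_comp, ← gaPt_comp, Category.assoc]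
  have hCn : ∀ {X' X : Over S} (h : X' ⟶ X) a, h.left.appTop (C X a) = C X' (h.left.appTop a) := fun h a => by
    simp only [C, ← gaFn_comp, ← gaPt_comp, Category.assoc]
  have hBn : ∀ {X' X : Over S} (h : X' ⟶ X) a, h ≫ B X a = B X' (h.left.appTop a) := fun h a => by
    simp only [B, ← gaPt_comp, Category.assoc]
  have hval : ∀ (X : Over S) (a : Γ(X.left, ⊤)),
      gaPt a ≫ p = (gaPt (A X a) ≫ pm) * (B X a ≫ i) * (gaPt (C X a) ≫ pp) := by
    intro X a
    conv_lhs => rw [hpc]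
    simp only [A, B, C, gaPt_gaFn, MonObj.comp_mul, Category.assoc]
  haveI : Flat (j ≫ α).left ∧ Surjective (j ≫ α).left :=
    GrothLib.CharFib14.flat_surjective_of_base_changes hQ (j ≫ α)
      (fun S' g hS' => GrothLib.CharFib14.ne_one_of_geomFibres (j ≫ α) hα g hS')
  haveI hfl : Flat (j ≫ α).left := this.1
  haveI : Surjective (j ≫ α).left := this.2
  haveI := GrothLib.EssFree.isAffineHom_multTypeFT Q (GrothLib.QuotTorus14.isMultTypeFT_of_charts
    (GrothLib.DiagGrp.hasChartsFpqc_of_isTorus hQ))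
  -- equivariance for every unit
  have heq : ∀ (X : Over S) (l : Units Γ(X.left, ⊤)) (a : Γ(X.left, ⊤)),
      A X (l * a) * (l : Γ(X.left, ⊤)) ^ q = A X a ∧ B X (l * a) = B X a ∧
        C X (l * a) = (l : Γ(X.left, ⊤)) ^ q * C X a := by
    intro X l a
    haveI : QuasiCompact ((j ≫ α).left ≫ (Red.Gm S).hom) := by rw [Over.w (j ≫ α)]; infer_instance
    haveI : QuasiSeparated (Red.Gm S).hom := by
      haveI : IsAffineHom (Red.Gm S).hom := GrothLib.DiagGrp.isAffineHom_DS S ℤ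
      infer_instance
    haveI : QuasiCompact (j ≫ α).left := QuasiCompact.of_comp (j ≫ α).left (Red.Gm S).hom
    let zl : X ⟶ Red.Gm S := GmPts.ptOfUnit l
    let X' : Over S := Over.mk (pullback.fst zl.left (j ≫ α).left ≫ X.hom)
    let h : X' ⟶ X := Over.homMk (pullback.fst zl.left (j ≫ α).left) rfl
    let t : X' ⟶ Q := Over.homMk (pullback.snd zl.left (j ≫ α).left) (by
      change pullback.snd zl.left (j ≫ α).left ≫ Q.hom = pullback.fst zl.left (j ≫ α).left ≫ X.hom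
      rw [← Over.w (j ≫ α), ← pullback.condition_assoc, Over.w zl])
    haveI : Epi (pullback.fst zl.left (j ≫ α).left) := Flat.epi_of_flat_of_surjective _
    haveI : Epi h := by
      constructor
      intro Z f g hfg
      exact Over.OverMorphism.ext ((cancel_epi (pullback.fst zl.left (j ≫ α).left)).mp (congrArg Over.Hom.left hfg))
    have ht : t ≫ j ≫ α = h ≫ zl := Over.OverMorphism.ext pullback.condition.symm
    let lam : Γ(X'.left, ⊤) := h.left.appTop l
    have htv : Red.gmFn (t ≫ j ≫ α) = lam := by rw [ht, GmPts.gmFn_comp, GmPts.gmFn_ptOfUnit]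
    have e := hp X' t (gaPt (h.left.appTop a)) (gaPt (h.left.appTop (l * a)))
      (by rw [gaFn_gaPt, gaFn_gaPt, htv, map_mul])
    obtain ⟨y', x', he, hy', hx'⟩ := conj_coords i hT α pp pm hpp hpm ((t ≫ j) ^ q) (B X' (h.left.appTop a))
      (gaPt (A X' (h.left.appTop a))) (gaPt (C X' (h.left.appTop a)))
    rw [(pow_pt i j α q t).2, htv] at hy' hx'
    rw [gaFn_gaPt] at hy' hx'
    rw [(pow_pt i j α q t).1, ← hval, ← e, hval] at he
    obtain ⟨e1, e2, e3⟩ := cell_inj i pp pm he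
    refine ⟨appTop_injective_of_epi h ?_, (cancel_epi h).mp ?_, appTop_injective_of_epi h ?_⟩
    · rw [map_mul, map_pow, hAn, hAn, ← gaFn_gaPt (T := X') (A X' _), e1]
      exact hy'
    · rw [hBn, hBn, e2]
    · rw [map_mul, map_pow, hCn, hCn, ← gaFn_gaPt (T := X') (C X' _), e3]
      exact hx'
  -- values at zero
  have hz : ∀ X : Over S, A X 0 = 0 ∧ B X 0 = 1 ∧ C X 0 = 0 := by
    intro X
    have e := hval X 0
    rw [gaPt_zero, MonObj.one_comp] at e
    have e' : ((1 : X ⟶ Red.Ga S) ≫ pm) * ((1 : X ⟶ T) ≫ i) * ((1 : X ⟶ Red.Ga S) ≫ pp) =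
        (gaPt (A X 0) ≫ pm) * (B X 0 ≫ i) * (gaPt (C X 0) ≫ pp) := by
      rw [← e]; simp [MonObj.one_comp]
    obtain ⟨e1, e2, e3⟩ := cell_inj i pp pm e'
    refine ⟨?_, e2.symm, ?_⟩
    · rw [← gaFn_gaPt (T := X) (A X 0), ← e1, gaFn_one]
    · rw [← gaFn_gaPt (T := X) (C X 0), ← e3, gaFn_one]
  have hA1 : ∀ (X : Over S) a, A X a * a ^ q = A X 1 := by
    intro X a
    refine sub_eq_zero.mp (eq_zero_of_units (fun Y b => A Y b * b ^ q - A Y 1) (fun h b => ?_) (fun Y b hb => ?_) X a)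
    · simp only [map_sub, map_mul, map_pow, hAn, map_one]
    · obtain ⟨l, rfl⟩ := hb
      have := (heq Y l 1).1
      rw [_root_.mul_one] at this
      rw [this, sub_self]
  have hA : ∀ (X : Over S) a, A X a = 0 := by
    have h10 : ∀ Y : Over S, A Y 1 = 0 := fun Y => by rw [← hA1 Y 0, (hz Y).1, zero_mul]
    intro X a
    refine eq_zero_of_units A hAn (fun Y b hb => ?_) X a
    exact (hb.pow q).mul_left_eq_zero.mp ((hA1 Y b).trans (h10 Y))
  have hC : ∀ (X : Over S) a, C X a = C X 1 * a ^ q := by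
    intro X a
    refine sub_eq_zero.mp (eq_zero_of_units (fun Y b => C Y b - C Y 1 * b ^ q) (fun h b => ?_) (fun Y b hb => ?_) X a)
    · simp only [map_sub, map_mul, map_pow, hCn, map_one]
    · obtain ⟨l, rfl⟩ := hb
      have := (heq Y l 1).2.2
      rw [_root_.mul_one] at this
      rw [this, mul_comm, sub_self]
  have hB : ∀ (X : Over S) a, B X a = 1 := by
    have hsq : ∀ (X : Over S) a, B X a = B X 1 * B X 1 := by
      intro X a
      obtain ⟨X', h, _, t, ht1, ht2⟩ := exists_cover X a 0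
      rw [map_zero, sub_zero] at ht2
      rw [← cancel_epi h, hBn, MonObj.comp_mul, hBn, map_one]
      set a' := h.left.appTop a with ha'
      obtain ⟨l₁, hl₁⟩ := ht2
      obtain ⟨l₂, hl₂⟩ : IsUnit (a' - t) := by rw [← neg_sub]; exact ht1.neg
      have hb1 : ∀ l : Units Γ(X'.left, ⊤), B X' l = B X' 1 := fun l => by
        have := (heq X' l 1).2.1
        rwa [_root_.mul_one] at this
      have hu : ∀ l : Units Γ(X'.left, ⊤), gaPt (l : Γ(X'.left, ⊤)) ≫ p = (B X' 1 ≫ i) * (gaPt (C X' l) ≫ pp) := by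
        intro l
        rw [hval, hA, gaPt_zero, MonObj.one_comp, _root_.one_mul, hb1]
      have e : gaPt a' ≫ p = (gaPt (l₁ : Γ(X'.left, ⊤)) ≫ p) * (gaPt (l₂ : Γ(X'.left, ⊤)) ≫ p) := by
        rw [← MonObj.mul_comp, ← gaPt_add, hl₁, hl₂, add_sub_cancel]
      rw [hu, hu, hval, hA, gaPt_zero, MonObj.one_comp, _root_.one_mul] at e
      obtain ⟨x', hx', -⟩ := hpp X' (B X' 1)⁻¹ (gaPt (C X' l₁))
      have e' : (gaPt (0 : Γ(X'.left, ⊤)) ≫ pm) * (B X' a' ≫ i) * (gaPt (C X' a') ≫ pp) =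
          (gaPt (0 : Γ(X'.left, ⊤)) ≫ pm) * ((B X' 1 * B X' 1) ≫ i) * ((x' * gaPt (C X' l₂)) ≫ pp) := by
        rw [gaPt_zero, MonObj.one_comp, _root_.one_mul, _root_.one_mul, e, MonObj.mul_comp, MonObj.mul_comp, hx',
          GrpObj.inv_comp]
        group
      exact (cell_inj i pp pm e').2.1
    intro X a
    rw [hsq X a, ← hsq X 0, (hz X).2.1]
  refine ⟨gaPt (C (𝟙_ _) 1), fun X x y hy => ?_, fun ν hν => ?_⟩
  · rw [gaFn_comp, gaFn_gaPt, hCn, map_one] at hy
    rw [← gaPt_gaFn x, hval, hA, hB, gaPt_zero, MonObj.one_comp, MonObj.one_comp, _root_.one_mul, _root_.one_mul,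
      hC, ← hy, gaPt_gaFn]
  · have e1 := hν (𝟙_ _) (gaPt 1) (gaPt (Red.gaFn ν)) (by
      rw [gaFn_gaPt, gaFn_gaPt, one_pow, _root_.mul_one, toUnit_unique (toUnit _) (𝟙 _), Category.id_comp])
    rw [gaPt_gaFn, hval, hA, hB, gaPt_zero, MonObj.one_comp, MonObj.one_comp, _root_.one_mul, _root_.one_mul] at e1
    have e2 : ((1 : 𝟙_ (Over S) ⟶ Red.Ga S) ≫ pm) * ((1 : 𝟙_ (Over S) ⟶ T) ≫ i) * (gaPt (C (𝟙_ _) 1) ≫ pp) =
        ((1 : 𝟙_ (Over S) ⟶ Red.Ga S) ≫ pm) * ((1 : 𝟙_ (Over S) ⟶ T) ≫ i) * (ν ≫ pp) := by rw [e1]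
    exact (cell_inj i pp pm e2).2.2.symm

end GrothLib.RankCell14
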