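import Groth.Agent.Lib.RankCell14.Morph
import Groth.Agent.Lib.NormalTori14.Extend
import Groth.Agent.Lib.CentralTor14.Core

/-!
Compatibility of a homomorphism of rank-one groups with tori and with root groups.
-/

universe u

open CategoryTheory MonoidalCategory CartesianMonoidalCategory MonObj GrpObj AlgebraicGeometry
open CategoryTheory.Limits Opposite



namespace GrothLib.RankCell14

open GrothLib.RedPts GrothLib.RankOne

variable {S : Scheme.{u}}

theorem isTorus_Gm (S : Scheme.{u}) : Red.IsTorus (Red.Gm S) :=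
  GrothLib.NormalTori14.isTorus_DS S (r := 1)
    { toFun := fun v => v 0
      invFun := fun z _ => z
      left_inv := fun v => funext fun k => congrArg v (Subsingleton.elim 0 k)
      right_inv := fun _ => rfl
      map_add' := fun _ _ => rfl }

theorem one_ne_zero_geomPt (s : S) : (1 : Γ((Over.mk (Red.geomPt s)).left, ⊤)) ≠ 0 := fun h =>
  one_ne_zero (α := AlgebraicClosure (S.residueField s))
    (by simpa using congrArg (Scheme.ΓSpecIso (CommRingCat.of (AlgebraicClosure (S.residueField s)))).hom h)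

theorem comp_pow_left {A B C : Over S} [GrpObj C] (z : A ⟶ B) (a : B ⟶ C) (n : ℕ) : z ≫ a ^ n = (z ≫ a) ^ n := by
  induction n with
  | zero => rw [pow_zero, pow_zero, MonObj.comp_one]
  | succ n ih => rw [pow_succ, pow_succ, MonObj.comp_mul, ih]

/-- The square is non-trivial on every geometric fibre. -/
theorem square_ne_one (s : S) : (Over.pullback (Red.geomPt s)).map ((𝟙 (Red.Gm S)) ^ 2) ≠ 1 := by
  intro h
  apply one_ne_zero_geomPt s
  refine eq_zero_of_unit_pow 1 (M := 2) (by omega) fun X' y l => ?_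
  rw [map_one, _root_.mul_one]
  have e := GrothLib.DiagGrp.comp_eq_of_bc (Red.geomPt s) (u := (𝟙 (Red.Gm S)) ^ 2) (v := 1)
    (by rw [h, Functor.map_one]) y.left (Over.w y) (GmPts.ptOfUnit l)
  rw [pow_two, MonObj.comp_mul, Category.comp_id, MonObj.comp_one] at e
  have e2 := congrArg Red.gmFn e
  rw [GmPts.gmFn_mul, GmPts.gmFn_ptOfUnit, GmPts.gmFn_one] at e2
  rwa [pow_two]

variable {G T G' T' : Over S} [GrpObj G] [GrpObj T] [GrpObj G'] [GrpObj T'] {i : T ⟶ G} {α : T ⟶ Red.Gm S}
  {pp pm : Red.Ga S ⟶ G} {av : Red.Gm S ⟶ T} {i' : T' ⟶ G'} {α' : T' ⟶ Red.Gm S}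
  {pp' pm' : Red.Ga S ⟶ G'} {av' : Red.Gm S ⟶ T'} {H : Hyp i α pp pm av} {H' : Hyp i' α' pp' pm' av'}
  {q : ℕ} {f : G ⟶ G'} [IsMonHom f]

/-- A homomorphism compatible with the coroots maps the positive root group by a unit multiple of a power. -/
theorem exists_mapsU [IsOpenImmersion (cell i' pp' pm').left] [Mono i'] (hT' : Red.IsTorus T') (hq0 : 0 < q)
    (hC : MapsC H H' q f) : ∃ c : 𝟙_ (Over S) ⟶ Red.Gm S, MapsU H H' q c f := by
  haveI := H.monP
  haveI := H'.monI
  haveI := H'.monα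
  haveI := H'.monP
  haveI := H'.monM
  haveI := H'.monAv
  obtain ⟨ν, hν, -⟩ := existsUnique_weight i' hT' av' (isTorus_Gm S) α' (fun s => by rw [H'.h2]; exact square_ne_one s)
    pp' pm' H'.hpp H'.hpm q (pp ≫ f) (fun X t x x' hx' => by
      rw [show x' ≫ pp ≫ f = (H.datum X).u (Red.gaFn x') ≫ f by rw [← Category.assoc, H.u_eq],
        show x ≫ pp ≫ f = (H.datum X).u (Red.gaFn x) ≫ f by rw [← Category.assoc, H.u_eq], H'.C_eq', ← map_pow,
        ← hC X, ← post_inv, ← post_mul, ← post_mul]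
      refine congrArg (fun z => z ≫ f) ?_
      rw [(H.datum X).C_u, mul_inv_cancel_right]
      congr 1
      rw [hx', H'.h2, pow_two, MonObj.comp_mul, Category.comp_id, GmPts.gmFn_mul]
      rfl)
  have hν' : ∀ (X : Over S) (a : Γ(X.left, ⊤)),
      (H.datum X).u a ≫ f = (H'.datum X).u (Red.gaFn (toUnit X ≫ ν) * a ^ q) := fun X a =>
    (Category.assoc _ _ _).trans (hν X (gaPt a) (gaPt _) (by rw [gaFn_gaPt, gaFn_gaPt]))
  have hu : IsUnit (Red.gaFn ν) := by
    refine RingedSpace.isUnit_of_isUnit_germ (X := (𝟙_ (Over S)).left.toLocallyRingedSpace.toRingedSpace) ⊤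
      (Red.gaFn ν) fun s _ => ?_
    by_contra hs
    let P : Over S := Over.mk (Red.geomPt (S := S) s)
    have hz : Red.gaFn (toUnit P ≫ ν) = 0 := by
      rcases isUnit_or_eq_zero (K := AlgebraicClosure (S.residueField s)) (Red.gaFn (toUnit P ≫ ν)) with h | h
      · exfalso
        apply hs
        have h2 : IsLocalRing.closedPoint (AlgebraicClosure (S.residueField s)) ∈
            (toUnit P).left ⁻¹ᵁ (𝟙_ (Over S)).left.basicOpen (Red.gaFn ν) := by
          rw [Scheme.preimage_basicOpen_top, ← gaFn_comp, Scheme.basicOpen_of_isUnit _ h]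
          trivial
        have h3 : (toUnit P).left.base (IsLocalRing.closedPoint (AlgebraicClosure (S.residueField s))) = s := by
          change (Red.geomPt s).base _ = s
          rw [Scheme.Hom.comp_apply]; exact Scheme.fromSpecResidueField_apply s _
        exact (Scheme.mem_basicOpen_top _ _ _).mp (h3 ▸ h2)
      · exact h
    apply one_ne_zero_geomPt s
    refine eq_zero_of_unit_pow 1 (M := 2 * q) (by omega) fun X' y l => ?_
    rw [map_one, _root_.mul_one]
    have hz' : Red.gaFn (toUnit X' ≫ ν) = 0 := by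
      rw [← toUnit_unique (y ≫ toUnit P) (toUnit X'), Category.assoc, gaFn_comp, hz, map_zero]
    have hu1 : ∀ a, (H.datum X').u a ≫ f = 1 := fun a => by rw [hν', hz', zero_mul, Datum.u_zero]
    have hv1 : ∀ b, (H.datum X').v b ≫ f = 1 := fun b => by
      rw [v_eq_conj _ (w_conj_u_one H) b, post_mul, post_mul, post_inv, hu1, _root_.mul_one, mul_inv_cancel]
    have hC1 : (H.datum X').C l ≫ f = 1 := by
      rw [Datum.C_eq, post_mul, post_mul, post_mul, hu1, hu1, hv1, hv1]
      simp only [_root_.mul_one]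
    rw [hC X'] at hC1
    have h5 : (H'.datum X').av (l ^ q) = 1 := (cancel_mono i').mp (hC1.trans (MonObj.one_comp i').symm)
    have h6 := congrArg (H'.datum X').χ h5
    rw [(H'.datum X').χav, map_one] at h6
    have h7 := congrArg (fun v : Units Γ(X'.left, ⊤) => (v : Γ(X'.left, ⊤))) h6
    simp only [Units.val_mul, Units.val_pow_eq_pow_val, Units.val_one, ← pow_add] at h7
    rw [two_mul]; exact h7
  refine ⟨GmPts.ptOfUnit hu.unit, fun X a => ?_⟩
  rw [hν', cst_val, GmPts.gmFn_comp, GmPts.gmFn_ptOfUnit, gaFn_comp, IsUnit.unit_spec]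

theorem cst_unique [IsOpenImmersion (cell i' pp' pm').left] {c c' : 𝟙_ (Over S) ⟶ Red.Gm S}
    (hU : MapsU H H' q c f) (hU' : MapsU H H' q c' f) : c = c' := by
  have e := (hU (𝟙_ _) 1).symm.trans (hU' (𝟙_ _) 1)
  have e' : (H'.datum (𝟙_ (Over S))).v 0 * (H'.datum _).i 1 * (H'.datum _).u _ =
      (H'.datum (𝟙_ (Over S))).v 0 * (H'.datum _).i 1 * (H'.datum _).u _ := congrArg (fun z => _ * z) e
  have h := (cell_inj' H' e').2.2
  rw [one_pow, _root_.mul_one, _root_.mul_one, cst_val, cst_val, toUnit_unique (toUnit _) (𝟙 _),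
    Category.id_comp, Category.id_comp] at h
  exact GmPts.gmFn_injective h

/-- A homomorphism compatible with the root groups maps the torus to the torus, compatibly. -/
theorem exists_torus_map [IsOpenImmersion (cell i' pp' pm').left] [Mono i'] [LocallyOfFiniteType G'.hom]
    (hconn : ∀ s : S, ConnectedSpace (Red.geomFibre s G').left) (hT : Red.IsTorus T) (hT' : Red.IsTorus T')
    (hq0 : 0 < q) {c : 𝟙_ (Over S) ⟶ Red.Gm S} (hU : MapsU H H' q c f) (hC : MapsC H H' q f) :
    ∃ fT : T ⟶ T', IsMonHom fT ∧ i ≫ f = fT ≫ i' ∧ fT ≫ α' = α ^ q ∧ av ≫ fT = av' ^ q := by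
  haveI := H.monI
  haveI := H'.monI
  obtain ⟨fT, hfT⟩ := torus_of_commute H' hT' hconn hq0 (i ≫ f) (fun X' y l => by
    rw [← hC X', ← Category.assoc, ← post_mul, ← post_mul]
    refine congrArg (fun z => z ≫ f) ?_
    change ((H.datum X').av l ≫ i) * (y ≫ i) = (y ≫ i) * ((H.datum X').av l ≫ i)
    rw [← MonObj.mul_comp, ← MonObj.mul_comp, comm_torus hT])
  haveI : IsMonHom fT := GrothLib.GrpSchField.isMonHom_of_mul _ (by
    rw [← cancel_mono i', Category.assoc, Category.assoc, hfT, IsMonHom.mul_hom i', tensorHom_comp_tensorHom_assoc,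
      hfT, IsMonHom.mul_hom (i ≫ f)])
  refine ⟨fT, inferInstance, hfT.symm, GmPts.gmFn_injective ?_, ?_⟩
  · change Red.gmFn (fT ≫ α') = Red.gmFn (α ^ q)
    have e := congrArg (· ≫ f) ((H.datum T).conjU (𝟙 T) 1)
    simp only [post_mul, post_inv, hU T, one_pow, _root_.mul_one] at e
    rw [show (H.datum T).i (𝟙 T) ≫ f = (H'.datum T).i fT by
      change (𝟙 T ≫ i) ≫ f = fT ≫ i'
      rw [Category.id_comp, hfT], (H'.datum T).conjU] at e
    have e' : (H'.datum T).v 0 * (H'.datum T).i 1 * (H'.datum T).u _ =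
        (H'.datum T).v 0 * (H'.datum T).i 1 * (H'.datum T).u _ := congrArg (fun z => _ * z) e
    have h := (cell_inj' H' e').2.2
    rw [mul_comm (cst c T : Γ(T.left, ⊤)), ← H.χ_eq, ← H'.χ_eq, Category.id_comp] at h
    rw [(cst c T).isUnit.mul_left_inj] at h
    rw [h, gmFn_pow]
  · rw [← cancel_mono i']
    have h := mapsC_iff.mp hC _ (𝟙 (Red.Gm S))
    rw [Category.id_comp, Category.id_comp, Category.assoc, ← hfT, ← Category.assoc] at h
    exact h

end GrothLib.RankCell14
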