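import Groth.Agent.Lib.RankCell14.Cover
import Groth.Agent.Lib.DiagGrp.BaseChange
import Groth.Agent.Lib.DiagGrp.Torus

/-!
The centraliser of a power of the coroot in a rank-one group is the torus.
-/

universe u

open CategoryTheory MonoidalCategory CartesianMonoidalCategory MonObj GrpObj AlgebraicGeometry
open CategoryTheory.Limits Opposite

set_option backward.isDefEq.respectTransparency false

namespace GrothLib.RankCell14

open GrothLib.RedPts GrothLib.RankOne

variable {S : Scheme.{u}}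

/-- A function fixed by a power of every unit on every scheme above vanishes. -/
theorem eq_zero_of_unit_pow {X : Over S} (a : Γ(X.left, ⊤)) {M : ℕ} (hM : 0 < M)
    (h : ∀ (X' : Over S) (y : X' ⟶ X) (l : Units Γ(X'.left, ⊤)),
      (l : Γ(X'.left, ⊤)) ^ M * y.left.appTop a = y.left.appTop a) : a = 0 := by
  suffices key : ∀ (R : CommRingCat.{u}) (f : Spec R ⟶ X.left), f.appTop a = 0 by
    refine eq_of_cover X.left.affineCover fun j => ?_
    rw [map_zero]
    exact key _ (X.left.affineCover.f j)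
  intro R f
  obtain ⟨r, hr⟩ : ∃ r, f.appTop a = (Scheme.ΓSpecIso _).inv r :=
    ⟨(Scheme.ΓSpecIso _).hom (f.appTop a),
      (congrArg (fun g => (ConcreteCategory.hom g) (f.appTop a)) (Scheme.ΓSpecIso _).hom_inv_id).symm⟩
  let P : CommRingCat.{u} := CommRingCat.of (Polynomial R)
  let L : CommRingCat.{u} :=
    CommRingCat.of (Localization.Away (Polynomial.X : Polynomial R))
  let cR : R ⟶ P := CommRingCat.ofHom Polynomial.C
  let loc : P ⟶ L := CommRingCat.ofHom (algebraMap (Polynomial R)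
    (Localization.Away (Polynomial.X : Polynomial R)))
  let X' : Over S := Over.mk ((Spec.map loc ≫ Spec.map cR ≫ f) ≫ X.hom)
  let y : X' ⟶ X := Over.homMk (Spec.map loc ≫ Spec.map cR ≫ f) rfl
  have hu : IsUnit ((Scheme.ΓSpecIso L).inv (loc (Polynomial.X))) :=
    (IsLocalization.Away.algebraMap_isUnit (Polynomial.X)).map (Scheme.ΓSpecIso L).inv.hom
  have h1 := h X' y hu.unit
  rw [show y.left.appTop a = (Scheme.ΓSpecIso L).inv (loc (Polynomial.C r)) by
      change (Spec.map loc ≫ Spec.map cR ≫ f).appTop a = _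
      rw [GmPts.appTop_comp_apply, GmPts.appTop_comp_apply, hr, specMap_appTop, specMap_appTop]
      rfl,
    IsUnit.unit_spec] at h1
  have h2 : loc ((Polynomial.X) ^ M * Polynomial.C r) = loc (Polynomial.C r) :=
    (Scheme.ΓSpecIso L).commRingCatIsoToRingEquiv.symm.injective (by
      change (Scheme.ΓSpecIso L).inv.hom (loc.hom _) = (Scheme.ΓSpecIso L).inv.hom (loc.hom _)
      rw [map_mul, map_mul, map_pow, map_pow]
      exact h1)
  have hinj : Function.Injective (loc : P → L) :=
    IsLocalization.injective (Localization.Away (Polynomial.X : Polynomial R))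
      (Submonoid.powers_le.mpr Polynomial.monic_X.mem_nonZeroDivisors)
  have h3 : r = 0 := by
    have h5 : (Polynomial.X ^ M * Polynomial.C r : Polynomial R) = Polynomial.C r := hinj h2
    have h4 := congrArg (fun q : Polynomial R => q.coeff 0) h5
    simp [Polynomial.coeff_X_pow, hM.ne] at h4
    first | exact h4 | exact h4.symm
  rw [hr, h3, map_zero]

section Alg

variable {A : Type*} [CommRing A] {Ti : Type*} [Group Ti] {Q : Type*} [Group Q] (D : Datum A Ti Q)

/-- Conjugating a point of the cell by the coroot. -/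
theorem C_conj_cell (hcomm : ∀ s t : Ti, s * t = t * s) (l : Aˣ) (a b : A) (t : Ti) :
    D.C l * (D.v a * D.i t * D.u b) * (D.C l)⁻¹ =
      D.v ((l⁻¹ : Aˣ) * (l⁻¹ : Aˣ) * a) * D.i t * D.u (l * l * b) := by
  have hc : D.C l * D.i t = D.i t * D.C l := by
    simp only [Datum.C, MonoidHom.coe_comp, Function.comp_apply, ← map_mul, hcomm]
  calc _ = (D.C l * D.v a) * (D.i t * D.u b) * (D.C l)⁻¹ := by simp only [_root_.mul_assoc]
    _ = D.v ((l⁻¹ : Aˣ) * (l⁻¹ : Aˣ) * a) * (D.C l * D.i t) * D.u b * (D.C l)⁻¹ := by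
      rw [D.C_v]; simp only [_root_.mul_assoc]
    _ = D.v ((l⁻¹ : Aˣ) * (l⁻¹ : Aˣ) * a) * D.i t * (D.C l * D.u b) * (D.C l)⁻¹ := by
      rw [hc]; simp only [_root_.mul_assoc]
    _ = _ := by rw [D.C_u]; group

theorem C_w_one (l : Aˣ) : D.C l * D.w 1 = D.w 1 * (D.C l)⁻¹ := by
  rw [← D.w_mul_left, D.w_mul_right]

/-- A translated point of the cell commuting with the coroot: the coroot has order dividing four. -/
theorem unit_pow_four (hcomm : ∀ s t : Ti, s * t = t * s)
    (inj : ∀ (a a' b b' : A) (t t' : Ti), D.v a * D.i t * D.u b = D.v a' * D.i t' * D.u b' →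
      a = a' ∧ t = t' ∧ b = b')
    (l : Aˣ) (a b : A) (t : Ti)
    (h : D.C l * (D.w 1 * (D.v a * D.i t * D.u b)) = D.w 1 * (D.v a * D.i t * D.u b) * D.C l) :
    (l : A) ^ 4 = 1 := by
  rw [← _root_.mul_assoc, C_w_one, _root_.mul_assoc, _root_.mul_assoc (D.w 1), mul_left_cancel_iff] at h
  have e1 : (D.C l)⁻¹ * (D.v a * D.i t * D.u b) = D.v (l * l * a) * D.i ((D.av l)⁻¹ * t) * D.u b := by
    rw [← map_inv, ← _root_.mul_assoc, ← _root_.mul_assoc, D.C_v, _root_.inv_inv]
    simp only [Datum.C, MonoidHom.coe_comp, Function.comp_apply, map_inv, map_mul, _root_.mul_assoc]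
  have e2 : D.v a * D.i t * D.u b * D.C l =
      D.v a * D.i (t * D.av l) * D.u ((l⁻¹ : Aˣ) * (l⁻¹ : Aˣ) * b) := by
    rw [_root_.mul_assoc _ (D.u b), D.u_C, map_mul D.i]
    simp only [Datum.C, MonoidHom.coe_comp, Function.comp_apply, _root_.mul_assoc]
  rw [e1, e2] at h
  obtain ⟨-, h2, -⟩ := inj _ _ _ _ _ _ h
  rw [hcomm t, mul_left_inj] at h2
  have h3 := congrArg D.χ h2
  rw [map_inv, D.χav, inv_eq_iff_mul_eq_one] at h3
  have h4 := congrArg (fun v : Aˣ => (v : A)) h3
  simp only [Units.val_mul, Units.val_one] at h4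
  rw [← h4]; ring

end Alg

variable {G T : Over S} [GrpObj G] [GrpObj T] {i : T ⟶ G} {α : T ⟶ Red.Gm S} {pp pm : Red.Ga S ⟶ G}
  {av : Red.Gm S ⟶ T}

theorem comm_torus (hT : Red.IsTorus T) {X : Over S} (s t : X ⟶ T) : s * t = t * s :=
  GrothLib.DiagGrp.mul_comm_of_charts (GrothLib.DiagGrp.hasChartsFpqc_of_isTorus hT) X s t

/-- A point commuting with a power of the coroot is a point of the torus. -/
theorem torus_of_commute (H : Hyp i α pp pm av) (hT : Red.IsTorus T) [IsOpenImmersion (cell i pp pm).left]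
    [LocallyOfFiniteType G.hom] (hconn : ∀ s : S, ConnectedSpace (Red.geomFibre s G).left) {N : ℕ} (hN : 0 < N)
    {X : Over S} (g : X ⟶ G)
    (hg : ∀ (X' : Over S) (y : X' ⟶ X) (l : Units Γ(X'.left, ⊤)),
      (H.datum X').C (l ^ N) * (y ≫ g) = (y ≫ g) * (H.datum X').C (l ^ N)) :
    ∃ t : X ⟶ T, t ≫ i = g := by
  haveI := H.monI
  have hall : ∀ z : X.left, g.left.base z ∈ Set.range (cell i pp pm).left.base := by
    intro z
    refine (mem_or_mem H hconn g z).resolve_right fun hz => ?_
    let X₁ : Over S := Over.mk (X.left.fromSpecResidueField z ≫ X.hom)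
    let y : X₁ ⟶ X := Over.homMk (X.left.fromSpecResidueField z) rfl
    have hw : ((H.datum X₁).w 1)⁻¹ * (y ≫ g) = y ≫ (((H.datum X).w 1)⁻¹ * g) := by
      rw [MonObj.comp_mul, GrpObj.comp_inv, w1_comp]
    obtain ⟨a, t, b, hc⟩ := exists_coords' H (((H.datum X₁).w 1)⁻¹ * (y ≫ g)) (fun z' => by
      rw [hw, Over.comp_left, Scheme.Hom.comp_apply]
      exact (congrArg (fun q => (((H.datum X).w 1)⁻¹ * g).left.base q ∈ Set.range (cell i pp pm).left.base)
        (Scheme.fromSpecResidueField_apply z z')).mpr hz)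
    have h1 : (1 : Γ(X₁.left, ⊤)) = 0 := by
      refine eq_zero_of_unit_pow 1 (M := 4 * N) (by omega) fun X' y' l => ?_
      rw [map_one, _root_.mul_one]
      have hc' : (y' ≫ y) ≫ g = (H.datum X').w 1 *
          ((H.datum X').v (y'.left.appTop a) * (H.datum X').i (y' ≫ t) * (H.datum X').u (y'.left.appTop b)) := by
        rw [inv_mul_eq_iff_eq_mul] at hc
        rw [Category.assoc, hc, MonObj.comp_mul, MonObj.comp_mul, MonObj.comp_mul, H.u_comp, H.v_comp, w1_comp]
        congr 3
      have e := hg X' (y' ≫ y) l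
      rw [hc'] at e
      have := unit_pow_four (H.datum X') (comm_torus hT) (fun _ _ _ _ _ _ h => cell_inj' H h) (l ^ N) _ _ _ e
      rw [Units.val_pow_eq_pow_val, ← pow_mul, mul_comm N] at this
      exact this
    rcases isUnit_or_eq_zero (K := X.left.residueField z) (1 : Γ(X₁.left, ⊤)) with h | h
    · exact one_ne_zero (α := X.left.residueField z)
        (by simpa using congrArg (Scheme.ΓSpecIso (CommRingCat.of (X.left.residueField z))).hom h1)
    · exact one_ne_zero (α := X.left.residueField z)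
        (by simpa using congrArg (Scheme.ΓSpecIso (CommRingCat.of (X.left.residueField z))).hom h)
  obtain ⟨a, t, b, hc⟩ := exists_coords' H g hall
  refine ⟨t, ?_⟩
  have key : ∀ (X' : Over S) (y : X' ⟶ X) (l : Units Γ(X'.left, ⊤)),
      ((l ^ N)⁻¹ : Units Γ(X'.left, ⊤)) * ((l ^ N)⁻¹ : Units Γ(X'.left, ⊤)) * y.left.appTop a = y.left.appTop a ∧
        (l ^ N : Units Γ(X'.left, ⊤)) * (l ^ N : Units Γ(X'.left, ⊤)) * y.left.appTop b = y.left.appTop b := by
    intro X' y l
    have e := hg X' y l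
    rw [← mul_inv_eq_iff_eq_mul] at e
    have hy : y ≫ g = (H.datum X').v (y.left.appTop a) * (H.datum X').i (y ≫ t) * (H.datum X').u (y.left.appTop b) := by
      rw [hc, MonObj.comp_mul, MonObj.comp_mul, H.u_comp, H.v_comp]
      congr 2
    rw [hy, C_conj_cell (H.datum X') (comm_torus hT)] at e
    obtain ⟨e1, -, e3⟩ := cell_inj' H e
    exact ⟨e1, e3⟩
  have hb : b = 0 := by
    refine eq_zero_of_unit_pow b (M := 2 * N) (by omega) fun X' y l => ?_
    have := (key X' y l).2
    rw [Units.val_pow_eq_pow_val, ← pow_add] at this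
    rw [two_mul]; exact this
  have ha : a = 0 := by
    refine eq_zero_of_unit_pow a (M := 2 * N) (by omega) fun X' y l => ?_
    have := (key X' y l⁻¹).1
    rw [inv_pow, _root_.inv_inv, Units.val_pow_eq_pow_val, ← pow_add] at this
    rw [two_mul]; exact this
  rw [hc, ha, hb, Datum.u_zero, Datum.v_zero, _root_.one_mul, _root_.mul_one]
  rfl

end GrothLib.RankCell14
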