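import Groth.Agent.Lib.RankCell14.Basic
import Groth.Agent.Lib.Rigidity.SmoothGroup

/-!
A rank-one group is covered by the big cell and its Weyl translate.
-/

universe u

open CategoryTheory MonoidalCategory CartesianMonoidalCategory MonObj GrpObj AlgebraicGeometry
open CategoryTheory.Limits Opposite

set_option backward.isDefEq.respectTransparency false

namespace GrothLib.RankCell14

open GrothLib.RedPts GrothLib.RankOne

variable {S : Scheme.{u}} {G T : Over S} [GrpObj G]

/-- Over a geometric point, a point of a connected group is a quotient of two points of the cell. -/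
theorem exists_cell_quot (i : T ⟶ G) (pp pm : Red.Ga S ⟶ G) [GrpObj T] [IsMonHom i] [IsMonHom pp] [IsMonHom pm]
    [IsOpenImmersion (cell i pp pm).left] [LocallyOfFiniteType G.hom] (s : S)
    (hconn : ConnectedSpace (Red.geomFibre s G).left) (g : Over.mk (Red.geomPt s) ⟶ G) :
    ∃ ω : Over.mk (Red.geomPt s) ⟶ G, (∀ z, ω.left.base z ∈ Set.range (cell i pp pm).left.base) ∧
      ∀ z, (g * ω).left.base z ∈ Set.range (cell i pp pm).left.base := by
  let K := AlgebraicClosure (S.residueField s)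
  haveI : LocallyOfFiniteType (Red.geomFibre s G).hom :=
    inferInstanceAs (LocallyOfFiniteType (pullback.snd G.hom (Red.geomPt s)))
  haveI := GrothLib.Rigidity.irreducibleSpace_of_connected (Red.geomFibre s G)
  let Q : Over S := Over.mk (pullback.snd G.hom (Red.geomPt s) ≫ Red.geomPt s)
  let toP : Q ⟶ Over.mk (Red.geomPt s) := Over.homMk (pullback.snd G.hom (Red.geomPt s)) rfl
  let pr : Q ⟶ G := Over.homMk (pullback.fst G.hom (Red.geomPt s)) pullback.condition
  let σ : ∀ h : Over.mk (Red.geomPt s) ⟶ G, Over.mk (Red.geomPt s) ⟶ Q := fun h =>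
    Over.homMk (pullback.lift h.left (𝟙 _) ((Over.w h).trans (Category.id_comp _).symm))
      (by change _ ≫ pullback.snd _ _ ≫ _ = _; rw [pullback.lift_snd_assoc]; exact Category.id_comp _)
  have hσ1 : ∀ h, σ h ≫ pr = h := fun h => Over.OverMorphism.ext (pullback.lift_fst _ _ _)
  have hσ2 : ∀ h, σ h ≫ toP = 𝟙 _ := fun h => Over.OverMorphism.ext (pullback.lift_snd _ _ _)
  haveI : IrreducibleSpace Q.left := ‹IrreducibleSpace (Red.geomFibre s G).left›
  let L : Q ⟶ G := (toP ≫ g) * pr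
  have h1 : ∀ z, (1 : Over.mk (Red.geomPt s) ⟶ G).left.base z ∈ Set.range (cell i pp pm).left.base :=
    mem_range_cell i pp pm (y := 1) (t := 1) (x := 1) (by simp [MonObj.one_comp])
  let U : (Q.left).Opens := ⟨pr.left.base ⁻¹' Set.range (cell i pp pm).left.base ∩
      L.left.base ⁻¹' Set.range (cell i pp pm).left.base,
    ((cell i pp pm).left.isOpenEmbedding.isOpen_range.preimage pr.left.continuous).inter
      ((cell i pp pm).left.isOpenEmbedding.isOpen_range.preimage L.left.continuous)⟩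
  have hUne : (U : Set Q.left).Nonempty := by
    refine nonempty_preirreducible_inter
      ((cell i pp pm).left.isOpenEmbedding.isOpen_range.preimage pr.left.continuous)
      ((cell i pp pm).left.isOpenEmbedding.isOpen_range.preimage L.left.continuous) ?_ ?_
    · refine ⟨(σ 1).left.base (IsLocalRing.closedPoint K), ?_⟩
      rw [Set.mem_preimage, ← Scheme.Hom.comp_apply, ← Over.comp_left, hσ1]
      exact h1 _
    · refine ⟨(σ g⁻¹).left.base (IsLocalRing.closedPoint K), ?_⟩
      rw [Set.mem_preimage, ← Scheme.Hom.comp_apply, ← Over.comp_left, MonObj.comp_mul, reassoc_of% hσ2, hσ1, mul_inv_cancel]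
      exact h1 _
  obtain ⟨q, hq, hqU⟩ := GrothLib.CentralTor14.exists_pt (pullback.snd G.hom (Red.geomPt s)) U hUne
  let σ' : Over.mk (Red.geomPt s) ⟶ Q := Over.homMk q (by
    change q ≫ pullback.snd G.hom (Red.geomPt s) ≫ Red.geomPt s = Red.geomPt s
    rw [reassoc_of% hq])
  have hσ' : σ' ≫ toP = 𝟙 _ := Over.OverMorphism.ext hq
  refine ⟨σ' ≫ pr, fun z => ?_, fun z => ?_⟩
  · rw [Subsingleton.elim (α := PrimeSpectrum K) z (IsLocalRing.closedPoint K), Over.comp_left,
      Scheme.Hom.comp_apply]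
    exact hqU.1
  · rw [show g * (σ' ≫ pr) = σ' ≫ L by rw [MonObj.comp_mul, reassoc_of% hσ'],
      Subsingleton.elim (α := PrimeSpectrum K) z (IsLocalRing.closedPoint K), Over.comp_left,
      Scheme.Hom.comp_apply]
    exact hqU.2

/-- Over a field, a quotient of two points of the cell is in the cell or in its Weyl translate. -/
theorem exists_cell_or_translate {A : Type*} [CommRing A] {Ti : Type*} [Group Ti] {Q : Type*} [Group Q]
    (D : Datum A Ti Q) (hfield : ∀ a : A, IsUnit a ∨ a = 0)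
    (hwu : ∀ c : A, D.w 1 * D.u c * (D.w 1)⁻¹ = D.v (-c)) (y x y' x' : A) (t t' : Ti) (g : Q)
    (hg : g = D.v y * D.i t * D.u x * (D.v y' * D.i t' * D.u x')⁻¹) :
    ∃ (a : A) (t₀ : Ti) (b : A), g = D.v a * D.i t₀ * D.u b ∨ (D.w 1)⁻¹ * g = D.v a * D.i t₀ * D.u b := by
  obtain ⟨b, hb⟩ : ∃ b : A, b = (D.χ t' : A) * (x + -x') := ⟨_, rfl⟩
  have hgd : g = D.v y * D.i (t * t'⁻¹) * D.u b * D.v (-y') := by
    calc g = D.v y * D.i t * (D.u (x + -x') * (D.i t')⁻¹) * D.v (-y') := by
          rw [hg, D.u_add, D.u_neg, D.v_neg]; group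
      _ = _ := by
          rw [hb, ← map_inv, D.u_i, map_inv D.χ, _root_.inv_inv, map_mul]
          simp only [_root_.mul_assoc]
  rcases hfield (1 + b * -y') with h | h
  · obtain ⟨u', hu'⟩ := h
    refine ⟨y + ((D.χ (t * t'⁻¹))⁻¹ : Units A) * (-y' * (u'⁻¹ : Units A)), t * t'⁻¹ * D.av u',
      b * (u'⁻¹ : Units A), Or.inl ?_⟩
    calc g = D.v y * D.i (t * t'⁻¹) * (D.u b * D.v (-y')) := by rw [hgd, _root_.mul_assoc]
      _ = D.v y * (D.i (t * t'⁻¹) * D.v (-y' * (u'⁻¹ : Units A))) * D.C u' * D.u (b * (u'⁻¹ : Units A)) := by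
          rw [D.rule' b (-y') u' hu']; simp only [_root_.mul_assoc]
      _ = _ := by
          rw [D.i_v, D.v_add, map_mul D.i _ (D.av u')]
          simp only [Datum.C, MonoidHom.coe_comp, Function.comp_apply, _root_.mul_assoc]
  · obtain ⟨bu, hbu⟩ : IsUnit b := IsUnit.of_mul_eq_one y' (by linear_combination -h)
    have hc : -y' = -((bu⁻¹ : Units A) : A) := by
      have e : (bu : A) * (bu⁻¹ : Units A) = 1 := bu.mul_inv
      rw [← hbu] at h
      linear_combination ((bu⁻¹ : Units A) : A) * h + y' * e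
    obtain ⟨t₁, ht₁⟩ : ∃ t₁, t₁ = t * t'⁻¹ := ⟨_, rfl⟩
    obtain ⟨t₃, ht₃⟩ : ∃ t₃, t₃ = t₁ * D.av bu := ⟨_, rfl⟩
    obtain ⟨y₃, hy₃⟩ : ∃ y₃, y₃ = (D.χ t₃ : A) * y := ⟨_, rfl⟩
    have hw1 : D.w 1 = (D.C bu)⁻¹ * D.w bu := by
      rw [eq_inv_mul_iff_mul_eq, ← D.w_mul_left, _root_.mul_one]
    have hg3 : g = D.v y * D.i t₃ * D.w 1 * D.u (-(bu : A)) := by
      rw [hgd, hc, ← hbu, ← ht₁, ht₃, map_mul, show D.i (D.av bu) = D.C bu from rfl, hw1]
      simp only [Datum.w, D.u_neg]
      group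
    rw [D.v_i, ← hy₃] at hg3
    have hwi : (D.w 1)⁻¹ * D.i t₃ * D.w 1 = D.i ((D.av (D.χ t₃))⁻¹ * t₃) := by
      have e := D.w_conj_i (-1) t₃
      rw [D.w_neg, _root_.inv_inv] at e
      rw [e]
      simp only [Datum.C, MonoidHom.coe_comp, Function.comp_apply]
      rw [← map_inv D.i, ← map_mul D.i]
    have hwv : (D.w 1)⁻¹ * D.v y₃ * D.w 1 = D.u (-y₃) := by
      have e := hwu (-y₃)
      rw [neg_neg] at e
      rw [← e]; group
    refine ⟨0, (D.av (D.χ t₃))⁻¹ * t₃, -y₃ + -(bu : A), Or.inr ?_⟩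
    rw [D.v_zero, _root_.one_mul, D.u_add, ← hwi, ← hwv, hg3]
    group

variable [GrpObj T] {i : T ⟶ G} {α : T ⟶ Red.Gm S} {pp pm : Red.Ga S ⟶ G} {av : Red.Gm S ⟶ T}

theorem mem_range_datum (H : Hyp i α pp pm av) {X : Over S} (g : X ⟶ G) (a b : Γ(X.left, ⊤)) (t : X ⟶ T)
    (hg : g = (H.datum X).v a * (H.datum X).i t * (H.datum X).u b) (z : X.left) :
    g.left.base z ∈ Set.range (cell i pp pm).left.base :=
  mem_range_cell i pp pm (y := gaPt a) (t := t) (x := gaPt b) hg z

theorem exists_coords' (H : Hyp i α pp pm av) [IsOpenImmersion (cell i pp pm).left] {X : Over S} (g : X ⟶ G)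
    (hg : ∀ z, g.left.base z ∈ Set.range (cell i pp pm).left.base) :
    ∃ (a : Γ(X.left, ⊤)) (t : X ⟶ T) (b : Γ(X.left, ⊤)),
      g = (H.datum X).v a * (H.datum X).i t * (H.datum X).u b := by
  obtain ⟨y, t, x, h⟩ := exists_coords i pp pm g hg
  exact ⟨Red.gaFn y, t, Red.gaFn x, by rw [← H.v_eq, ← H.u_eq]; exact h⟩

theorem cell_inj' (H : Hyp i α pp pm av) [IsOpenImmersion (cell i pp pm).left] {X : Over S}
    {a a' b b' : Γ(X.left, ⊤)} {t t' : X ⟶ T}
    (h : (H.datum X).v a * (H.datum X).i t * (H.datum X).u b =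
      (H.datum X).v a' * (H.datum X).i t' * (H.datum X).u b') : a = a' ∧ t = t' ∧ b = b' := by
  obtain ⟨h1, h2, h3⟩ := cell_inj i pp pm (y := gaPt a) (y' := gaPt a') (x := gaPt b) (x' := gaPt b') h
  exact ⟨by simpa [gaFn_gaPt] using congrArg Red.gaFn h1, h2, by simpa [gaFn_gaPt] using congrArg Red.gaFn h3⟩

theorem w1_comp (H : Hyp i α pp pm av) {X Y : Over S} (g : X ⟶ Y) :
    g ≫ (H.datum Y).w 1 = (H.datum X).w 1 := by
  simp only [Datum.w, MonObj.comp_mul, H.u_comp, H.v_comp, Units.val_one, inv_one, map_one, map_neg]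

/-- Every point lies in the cell or in its Weyl translate. -/
theorem mem_or_mem (H : Hyp i α pp pm av) [IsOpenImmersion (cell i pp pm).left] [LocallyOfFiniteType G.hom]
    (hconn : ∀ s : S, ConnectedSpace (Red.geomFibre s G).left) {X : Over S} (g : X ⟶ G) (z : X.left) :
    g.left.base z ∈ Set.range (cell i pp pm).left.base ∨
      (((H.datum X).w 1)⁻¹ * g).left.base z ∈ Set.range (cell i pp pm).left.base := by
  haveI := H.monI
  haveI := H.monP
  haveI := H.monM
  have key : ∀ z : G.left, z ∈ Set.range (cell i pp pm).left.base ∪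
      (((H.datum G).w 1)⁻¹ * 𝟙 G).left.base ⁻¹' Set.range (cell i pp pm).left.base := by
    intro z
    refine mem_of_geomPts _ ((cell i pp pm).left.isOpenEmbedding.isOpen_range.union
      ((cell i pp pm).left.isOpenEmbedding.isOpen_range.preimage (Scheme.Hom.continuous _))) (fun s g => ?_) z
    obtain ⟨ω, hω, hgω⟩ := exists_cell_quot i pp pm s (hconn s) g
    obtain ⟨y', t', x', hω'⟩ := exists_coords' H ω hω
    obtain ⟨y, t, x, hgω'⟩ := exists_coords' H (g * ω) hgω
    have hwu : ∀ c, (H.datum (Over.mk (Red.geomPt s))).w 1 * (H.datum _).u c * ((H.datum _).w 1)⁻¹ =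
        (H.datum _).v (-c) := fun c => by
      have e := H.w_conj_u (Y := Over.mk (Red.geomPt s)) 1 c
      simpa only [inv_one, Units.val_one, _root_.one_mul] using e
    obtain ⟨a, t₀, b, h⟩ := exists_cell_or_translate (H.datum (Over.mk (Red.geomPt s)))
      (fun a => isUnit_or_eq_zero (K := AlgebraicClosure (S.residueField s)) a) hwu y x y' x' t t' g
      (by rw [← hgω', ← hω', mul_inv_cancel_right])
    rcases h with h | h
    · exact Or.inl (mem_range_datum H g a b t₀ h _)
    · right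
      have h' : g ≫ (((H.datum G).w 1)⁻¹ * 𝟙 G) =
          (H.datum _).v a * (H.datum _).i t₀ * (H.datum _).u b := by
        rw [MonObj.comp_mul, GrpObj.comp_inv, w1_comp, Category.comp_id]
        exact h
      have h2 := mem_range_datum H _ _ _ _ h' (IsLocalRing.closedPoint (AlgebraicClosure (S.residueField s)))
      rw [Over.comp_left, Scheme.Hom.comp_apply] at h2
      exact h2
  rcases key (g.left.base z) with h | h
  · exact Or.inl h
  · right
    rw [show ((H.datum X).w 1)⁻¹ * g = g ≫ (((H.datum G).w 1)⁻¹ * 𝟙 G) by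
      rw [MonObj.comp_mul, GrpObj.comp_inv, w1_comp, Category.comp_id], Over.comp_left, Scheme.Hom.comp_apply]
    exact h

end GrothLib.RankCell14
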