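import Groth.Agent.Lib.RankCell14.Morph
import Groth.Agent.Lib.GITQuot.Orbit
import Groth.Agent.Lib.DiagGrp.KernelFP

/-!
Homomorphisms of rank-one systems which are faithfully flat on the tori.
-/

universe u

open CategoryTheory MonoidalCategory CartesianMonoidalCategory MonObj GrpObj AlgebraicGeometry
open CategoryTheory.Limits Opposite

set_option backward.isDefEq.respectTransparency false

namespace GrothLib.RankCell14

open GrothLib.RedPts GrothLib.RankOne

variable {S : Scheme.{u}}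

/-- A property stable under base change and composition holds for products of morphisms with the property. -/
theorem tensorHom_prop (P : MorphismProperty Scheme.{u}) [P.IsStableUnderBaseChange] [P.IsStableUnderComposition]
    {A B C D : Over S} (f : A ⟶ B) (g : C ⟶ D) (hf : P f.left) (hg : P g.left) : P (f ⊗ₘ g).left := by
  rw [MonoidalCategory.tensorHom_def, Over.comp_left]
  exact P.comp_mem _ _ (MorphismProperty.of_isPullback (GrothLib.GITQuot.isPullback_whiskerRight f C) hf)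
    (MorphismProperty.of_isPullback (GrothLib.GITQuot.isPullback_whiskerLeft B g) hg)

theorem cst_comp (c : 𝟙_ (Over S) ⟶ Red.Gm S) {X Y : Over S} (h : X ⟶ Y) :
    h.left.appTop (cst c Y : Γ(Y.left, ⊤)) = (cst c X : Γ(X.left, ⊤)) := by
  rw [cst_val, cst_val, ← GmPts.gmFn_comp, ← Category.assoc, toUnit_unique (h ≫ toUnit _) (toUnit _)]

theorem cst_inv_comp (c : 𝟙_ (Over S) ⟶ Red.Gm S) {X Y : Over S} (h : X ⟶ Y) :
    h.left.appTop (((cst c Y)⁻¹ : Units Γ(Y.left, ⊤)) : Γ(Y.left, ⊤)) =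
      (((cst c X)⁻¹ : Units Γ(X.left, ⊤)) : Γ(X.left, ⊤)) :=
  Units.eq_inv_of_mul_eq_one_left (by rw [← cst_comp c h, ← map_mul, Units.mul_inv, map_one])

/-- Scaling of the additive group by a unit. -/
noncomputable def scaleIso (c : 𝟙_ (Over S) ⟶ Red.Gm S) : Red.Ga S ≅ Red.Ga S where
  hom := gaPt ((cst c (Red.Ga S) : Γ((Red.Ga S).left, ⊤)) * Red.gaFn (𝟙 (Red.Ga S)))
  inv := gaPt ((((cst c (Red.Ga S))⁻¹ : Units Γ((Red.Ga S).left, ⊤)) : Γ((Red.Ga S).left, ⊤)) *
    Red.gaFn (𝟙 (Red.Ga S)))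
  hom_inv_id := gaFn_injective (by
    rw [gaPt_comp, gaFn_gaPt, map_mul, cst_inv_comp, ← gaFn_comp, Category.comp_id, gaFn_gaPt,
      Units.inv_mul_cancel_left])
  inv_hom_id := gaFn_injective (by
    rw [gaPt_comp, gaFn_gaPt, map_mul, cst_comp, ← gaFn_comp, Category.comp_id, gaFn_gaPt,
      Units.mul_inv_cancel_left])

theorem gaFn_scale (c : 𝟙_ (Over S) ⟶ Red.Gm S) {X : Over S} (x : X ⟶ Red.Ga S) :
    Red.gaFn (x ≫ (scaleIso c).hom) = (cst c X : Γ(X.left, ⊤)) * Red.gaFn x := by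
  rw [scaleIso, gaPt_comp, gaFn_gaPt, map_mul, cst_comp, ← gaFn_comp, Category.comp_id]

theorem gaFn_scale_inv (c : 𝟙_ (Over S) ⟶ Red.Gm S) {X : Over S} (x : X ⟶ Red.Ga S) :
    Red.gaFn (x ≫ (scaleIso c).inv) = (((cst c X)⁻¹ : Units Γ(X.left, ⊤)) : Γ(X.left, ⊤)) * Red.gaFn x := by
  rw [scaleIso, gaPt_comp, gaFn_gaPt, map_mul, cst_inv_comp, ← gaFn_comp, Category.comp_id]

/-- Translation by a point over the base. -/
noncomputable def translIso {G : Over S} [GrpObj G] (g : 𝟙_ (Over S) ⟶ G) : G ≅ G where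
  hom := (toUnit G ≫ g) * 𝟙 G
  inv := (toUnit G ≫ g)⁻¹ * 𝟙 G
  hom_inv_id := by
    rw [MonObj.comp_mul, GrpObj.comp_inv, ← Category.assoc, toUnit_unique ((toUnit G ≫ g * 𝟙 G) ≫ toUnit G) (toUnit G),
      Category.comp_id, inv_mul_cancel_left]
  inv_hom_id := by
    rw [MonObj.comp_mul, ← Category.assoc, toUnit_unique (((toUnit G ≫ g)⁻¹ * 𝟙 G) ≫ toUnit G) (toUnit G),
      Category.comp_id, mul_inv_cancel_left]

variable {G T G' T' : Over S} [GrpObj G] [GrpObj T] [GrpObj G'] [GrpObj T'] {i : T ⟶ G} {α : T ⟶ Red.Gm S}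
  {pp pm : Red.Ga S ⟶ G} {av : Red.Gm S ⟶ T} {i' : T' ⟶ G'} {α' : T' ⟶ Red.Gm S}
  {pp' pm' : Red.Ga S ⟶ G'} {av' : Red.Gm S ⟶ T'} {H : Hyp i α pp pm av} {H' : Hyp i' α' pp' pm' av'}

/-- Translating the cell by the coroot. -/
theorem C_mul_mem (H : Hyp i α pp pm av) [IsOpenImmersion (cell i pp pm).left] {X : Over S} {g : X ⟶ G}
    (hg : ∀ z, g.left.base z ∈ Set.range (cell i pp pm).left.base) (l : Units Γ(X.left, ⊤)) (z : X.left) :
    ((H.datum X).C l * g).left.base z ∈ Set.range (cell i pp pm).left.base := by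
  obtain ⟨a, t, b, rfl⟩ := exists_coords' H g hg
  refine mem_range_datum H _ (((l⁻¹ : Units Γ(X.left, ⊤)) : Γ(X.left, ⊤)) * ((l⁻¹ : Units Γ(X.left, ⊤)) : Γ(X.left, ⊤)) * a) b
    ((H.datum X).av l * t) ?_ z
  rw [← _root_.mul_assoc, ← _root_.mul_assoc, Datum.C_v, map_mul]
  simp only [Datum.C, MonoidHom.coe_comp, Function.comp_apply, _root_.mul_assoc]

/-- On a scheme with functions, `w 1` times the cell does not meet the unit. -/
theorem w_mul_cell_ne_one (H : Hyp i α pp pm av) (hT : Red.IsTorus T) [IsOpenImmersion (cell i pp pm).left]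
    {X : Over S} (hX : (1 : Γ(X.left, ⊤)) ≠ 0) (a b : Γ(X.left, ⊤)) (t : X ⟶ T) :
    (H.datum X).w 1 * ((H.datum X).v a * (H.datum X).i t * (H.datum X).u b) ≠ 1 := by
  intro h
  apply hX
  refine eq_zero_of_unit_pow 1 (M := 4) (by omega) fun X' y l => ?_
  rw [map_one, _root_.mul_one]
  have h' : (H.datum X').w 1 * ((H.datum X').v (y.left.appTop a) * (H.datum X').i (y ≫ t) *
      (H.datum X').u (y.left.appTop b)) = 1 := by
    have e := congrArg (y ≫ ·) h
    simp only [MonObj.comp_mul, w1_comp, H.u_comp, H.v_comp, MonObj.comp_one] at e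
    rw [← e]
    congr 3
  refine unit_pow_four (H.datum X') (comm_torus hT) (fun _ _ _ _ _ _ h => cell_inj' H h) l
    (y.left.appTop a) (y.left.appTop b) (y ≫ t) ?_
  rw [h', _root_.mul_one, _root_.one_mul]

variable (fT : T ⟶ T') (c : 𝟙_ (Over S) ⟶ Red.Gm S) (f : G ⟶ G') [IsMonHom f]

theorem map_cell_pt (hfT : i ≫ f = fT ≫ i') (hU : MapsU H H' 1 c f) (hV : MapsV H H' 1 c f)
    {X : Over S} (y : X ⟶ Red.Ga S) (t : X ⟶ T) (x : X ⟶ Red.Ga S) :
    ((y ≫ pm) * (t ≫ i) * (x ≫ pp)) ≫ f =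
      ((y ≫ (scaleIso c).inv) ≫ pm') * ((t ≫ fT) ≫ i') * ((x ≫ (scaleIso c).hom) ≫ pp') := by
  rw [post_mul, post_mul, Category.assoc t, hfT, ← Category.assoc t, H.u_eq x, hU X, H.v_eq y, hV X, H'.u_eq,
    H'.v_eq, gaFn_scale, gaFn_scale_inv, pow_one, pow_one]

theorem cell_map (hfT : i ≫ f = fT ≫ i') (hU : MapsU H H' 1 c f) (hV : MapsV H H' 1 c f) :
    cell i pp pm ≫ f = (((scaleIso c).inv ⊗ₘ fT) ⊗ₘ (scaleIso c).hom) ≫ cell i' pp' pm' := by
  have e : lift (lift (fst _ _ ≫ fst _ _) (fst _ _ ≫ snd _ _)) (snd _ _) = 𝟙 ((Red.Ga S ⊗ T) ⊗ Red.Ga S) := by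
    apply CartesianMonoidalCategory.hom_ext
    · apply CartesianMonoidalCategory.hom_ext <;> simp
    · simp
  conv_lhs => rw [← Category.id_comp (cell i pp pm), ← e, cell_apply, map_cell_pt fT c f hfT hU hV]
  conv_rhs => rw [← Category.id_comp (((scaleIso c).inv ⊗ₘ fT) ⊗ₘ (scaleIso c).hom), ← e, lift_map, lift_map,
    cell_apply]

theorem comp_transl (g : 𝟙_ (Over S) ⟶ G) : (translIso g).hom ≫ f = f ≫ (translIso (g ≫ f)).hom := by
  simp only [translIso, post_mul, MonObj.comp_mul, Category.assoc, Category.id_comp, Category.comp_id]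
  rw [← Category.assoc f, toUnit_unique (f ≫ toUnit G') (toUnit G)]

variable (hT : Red.IsTorus T) (hT' : Red.IsTorus T') [IsOpenImmersion (cell i pp pm).left]
  [IsOpenImmersion (cell i' pp' pm').left] [LocallyOfFiniteType G.hom] [LocallyOfFiniteType G'.hom]
  (hconn : ∀ s : S, ConnectedSpace (Red.geomFibre s G).left)
  (hconn' : ∀ s : S, ConnectedSpace (Red.geomFibre s G').left)

omit [IsMonHom f] [IsOpenImmersion (cell i' pp' pm').left] [LocallyOfFiniteType G'.hom] in
include hconn in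
theorem mem_cover (H : Hyp i α pp pm av) (z : G.left) :
    z ∈ Set.range (cell i pp pm).left.base ∨
      z ∈ Set.range (cell i pp pm ≫ (translIso ((H.datum (𝟙_ (Over S))).w 1)).hom).left.base := by
  rcases mem_or_mem H hconn (𝟙 G) z with h | ⟨p, hp⟩
  · exact Or.inl h
  · refine Or.inr ⟨p, ?_⟩
    have e : (((H.datum G).w 1)⁻¹ * 𝟙 G) ≫ (translIso ((H.datum (𝟙_ (Over S))).w 1)).hom = 𝟙 G := by
      simp only [translIso, MonObj.comp_mul, w1_comp, Category.comp_id]
      exact mul_inv_cancel_left _ _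
    rw [Over.comp_left, Scheme.Hom.comp_apply, hp, ← Scheme.Hom.comp_apply, ← Over.comp_left, e]
    rfl

include hconn in
theorem flat_map (hfT : i ≫ f = fT ≫ i') (hU : MapsU H H' 1 c f) (hV : MapsV H H' 1 c f) [Flat fT.left] :
    Flat f.left := by
  haveI : IsIso (scaleIso c).hom.left := inferInstanceAs (IsIso ((Over.forget S).map (scaleIso c).hom))
  haveI : IsIso (scaleIso c).inv.left := inferInstanceAs (IsIso ((Over.forget S).map (scaleIso c).inv))
  haveI : Flat (((scaleIso c).inv ⊗ₘ fT) ⊗ₘ (scaleIso c).hom).left :=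
    tensorHom_prop @Flat _ _ (tensorHom_prop @Flat _ _ inferInstance ‹_›) inferInstance
  let g := (H.datum (𝟙_ (Over S))).w 1
  haveI : IsIso (translIso g).hom.left := inferInstanceAs (IsIso ((Over.forget S).map (translIso g).hom))
  haveI : IsIso (translIso (g ≫ f)).hom.left :=
    inferInstanceAs (IsIso ((Over.forget S).map (translIso (g ≫ f)).hom))
  let e : Bool → ((Red.Ga S ⊗ T) ⊗ Red.Ga S ⟶ G) := fun b =>
    cond b (cell i pp pm) (cell i pp pm ≫ (translIso g).hom)
  haveI : ∀ b, IsOpenImmersion (e b).left := fun b => by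
    cases b
    · exact inferInstanceAs (IsOpenImmersion ((cell i pp pm).left ≫ (translIso g).hom.left))
    · exact (inferInstance : IsOpenImmersion (cell i pp pm).left)
  have hcov : TopologicalSpace.IsOpenCover fun b => (e b).left.opensRange :=
    TopologicalSpace.IsOpenCover.mk (eq_top_iff.mpr fun z _ => TopologicalSpace.Opens.mem_iSup.mpr
      ((mem_cover hconn H z).elim (fun h => ⟨true, h⟩) fun h => ⟨false, h⟩))
  refine (IsZariskiLocalAtSource.iff_of_openCover (P := @Flat) (Scheme.openCoverOfIsOpenCover _ _ hcov)).mpr fun b => ?_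
  have h2 : Flat ((e b).left ≫ f.left) := by
    rw [← Over.comp_left]
    cases b
    · change Flat ((cell i pp pm ≫ (translIso g).hom) ≫ f).left
      rw [Category.assoc, comp_transl, ← Category.assoc, cell_map fT c f hfT hU hV, Over.comp_left, Over.comp_left]
      infer_instance
    · change Flat (cell i pp pm ≫ f).left
      rw [cell_map fT c f hfT hU hV, Over.comp_left]
      infer_instance
  change Flat ((e b).left.opensRange.ι ≫ f.left)
  rw [← (MorphismProperty.cancel_left_of_respectsIso @Flat (e b).left.isoOpensRange.hom), ← Category.assoc,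
    Scheme.Hom.isoOpensRange_hom_ι]
  exact h2

include hT' hconn' in
theorem surjective_map (hfT : i ≫ f = fT ≫ i') (hU : MapsU H H' 1 c f) (hV : MapsV H H' 1 c f)
    (hW : MapsW H H' 1 c f) [Surjective fT.left] : Surjective f.left := by
  haveI : IsIso (scaleIso c).hom.left := inferInstanceAs (IsIso ((Over.forget S).map (scaleIso c).hom))
  haveI : IsIso (scaleIso c).inv.left := inferInstanceAs (IsIso ((Over.forget S).map (scaleIso c).inv))
  haveI : Surjective (((scaleIso c).inv ⊗ₘ fT) ⊗ₘ (scaleIso c).hom).left :=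
    tensorHom_prop @Surjective _ _ (tensorHom_prop @Surjective _ _ inferInstance ‹_›) inferInstance
  have hcell : Set.range (cell i' pp' pm').left.base ⊆ Set.range f.left.base := by
    rintro _ ⟨p, rfl⟩
    obtain ⟨p₀, rfl⟩ := (((scaleIso c).inv ⊗ₘ fT) ⊗ₘ (scaleIso c).hom).left.surjective p
    refine ⟨(cell i pp pm).left.base p₀, ?_⟩
    rw [← Scheme.Hom.comp_apply, ← Over.comp_left, cell_map fT c f hfT hU hV, Over.comp_left, Scheme.Hom.comp_apply]
  refine ⟨fun z => ?_⟩
  let g := (H.datum (𝟙_ (Over S))).w 1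
  let X₁ : Over S := Over.mk (G'.left.fromSpecResidueField z ≫ G'.hom)
  let y : X₁ ⟶ G' := Over.homMk (G'.left.fromSpecResidueField z) rfl
  have hy : ∀ p, y.left.base p = z := fun p => Scheme.fromSpecResidueField_apply z p
  have main : z ∈ Set.range (cell i' pp' pm').left.base ∨
      ∀ p, ((toUnit X₁ ≫ g ≫ f)⁻¹ * y).left.base p ∈ Set.range (cell i' pp' pm').left.base := by
    refine (mem_or_mem H' hconn' (𝟙 G') z).imp id fun h => ?_
    have hall : ∀ p, (((H'.datum X₁).w 1)⁻¹ * y).left.base p ∈ Set.range (cell i' pp' pm').left.base := fun p => by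
      rw [show ((H'.datum X₁).w 1)⁻¹ * y = y ≫ (((H'.datum G').w 1)⁻¹ * 𝟙 G') by
        rw [MonObj.comp_mul, GrpObj.comp_inv, w1_comp, Category.comp_id], Over.comp_left, Scheme.Hom.comp_apply, hy]
      exact h
    intro p
    have e : (toUnit X₁ ≫ g ≫ f)⁻¹ * y = (H'.datum X₁).C (cst c X₁) * (((H'.datum X₁).w 1)⁻¹ * y) := by
      rw [← Category.assoc, show toUnit X₁ ≫ g = (H.datum X₁).w 1 from w1_comp H _, hW X₁, one_pow,
        show cst c X₁ * 1 = cst c X₁ * 1 from rfl, Datum.w_mul_right, _root_.mul_inv_rev, _root_.inv_inv,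
        _root_.mul_assoc]
    rw [e]
    exact C_mul_mem H' hall _ p
  rcases main with h | h
  · exact hcell h
  · obtain ⟨p₀, hp₀⟩ := hcell (h (IsLocalRing.closedPoint (G'.left.residueField z)))
    refine ⟨(translIso g).hom.left.base p₀, ?_⟩
    rw [← Scheme.Hom.comp_apply, ← Over.comp_left, comp_transl, Over.comp_left, Scheme.Hom.comp_apply, hp₀,
      ← Scheme.Hom.comp_apply, ← Over.comp_left]
    have e : ((toUnit X₁ ≫ g ≫ f)⁻¹ * y) ≫ (translIso (g ≫ f)).hom = y := by
      simp only [translIso, MonObj.comp_mul, Category.comp_id]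
      rw [← Category.assoc _ (toUnit G'), toUnit_unique (_ ≫ toUnit G') (toUnit X₁), mul_inv_cancel_left]
    rw [e]
    exact hy _

include hT' hconn in
/-- The kernel lies in the torus. -/
theorem kernel_le (hfT : i ≫ f = fT ≫ i') (hU : MapsU H H' 1 c f) (hV : MapsV H H' 1 c f)
    (hW : MapsW H H' 1 c f) {X : Over S} (a : X ⟶ G) (ha : a ≫ f = 1) :
    ∃ t : X ⟶ T, t ≫ i = a ∧ t ≫ fT = 1 := by
  haveI := H'.monI
  have hall : ∀ z : X.left, a.left.base z ∈ Set.range (cell i pp pm).left.base := by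
    intro z
    refine (mem_or_mem H hconn a z).resolve_right fun hz => ?_
    let X₁ : Over S := Over.mk (X.left.fromSpecResidueField z ≫ X.hom)
    let y : X₁ ⟶ X := Over.homMk (X.left.fromSpecResidueField z) rfl
    have hw : ((H.datum X₁).w 1)⁻¹ * (y ≫ a) = y ≫ (((H.datum X).w 1)⁻¹ * a) := by
      rw [MonObj.comp_mul, GrpObj.comp_inv, w1_comp]
    obtain ⟨p, t, x, hc⟩ := exists_coords' H (((H.datum X₁).w 1)⁻¹ * (y ≫ a)) (fun z' => by
      rw [hw, Over.comp_left, Scheme.Hom.comp_apply]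
      exact (congrArg (fun q => (((H.datum X).w 1)⁻¹ * a).left.base q ∈ Set.range (cell i pp pm).left.base)
        (Scheme.fromSpecResidueField_apply z z')).mpr hz)
    have e := congrArg (· ≫ f) hc
    simp only [post_mul, post_inv, Category.assoc, ha, MonObj.comp_one, hW X₁, hU X₁, hV X₁, one_pow,
      _root_.mul_one, pow_one] at e
    rw [show (H.datum X₁).i t ≫ f = (H'.datum X₁).i (t ≫ fT) by
      change (t ≫ i) ≫ f = (t ≫ fT) ≫ i'; rw [Category.assoc, hfT, Category.assoc], inv_eq_iff_mul_eq_one,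
      ← _root_.mul_one (cst c X₁), Datum.w_mul_right, _root_.mul_assoc] at e
    have hi : ((H'.datum X₁).C (cst c X₁))⁻¹ = (H'.datum X₁).C (cst c X₁)⁻¹ := (map_inv _ _).symm
    rw [hi, ← _root_.mul_assoc ((H'.datum X₁).C (cst c X₁)⁻¹), ← _root_.mul_assoc ((H'.datum X₁).C (cst c X₁)⁻¹),
      Datum.C_v, _root_.mul_assoc _ _ ((H'.datum X₁).i _)] at e
    simp only [Datum.C, MonoidHom.coe_comp, Function.comp_apply, ← map_mul] at e
    refine w_mul_cell_ne_one H' hT' (fun h => ?_) _ _ _ e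
    exact one_ne_zero (α := X.left.residueField z)
      (by simpa using congrArg (Scheme.ΓSpecIso (CommRingCat.of (X.left.residueField z))).hom h)
  obtain ⟨p, t, x, hc⟩ := exists_coords' H a hall
  have e := congrArg (· ≫ f) hc
  simp only [post_mul, ha, hU X, hV X, pow_one] at e
  rw [show (H.datum X).i t ≫ f = (H'.datum X).i (t ≫ fT) by
    change (t ≫ i) ≫ f = (t ≫ fT) ≫ i'; rw [Category.assoc, hfT, Category.assoc]] at e
  have e' : (H'.datum X).v 0 * (H'.datum X).i 1 * (H'.datum X).u 0 =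
      (H'.datum X).v ((((cst c X)⁻¹ : Units Γ(X.left, ⊤)) : Γ(X.left, ⊤)) * p) * (H'.datum X).i (t ≫ fT) *
        (H'.datum X).u ((cst c X : Γ(X.left, ⊤)) * x) := by
    rw [Datum.u_zero, Datum.v_zero, map_one, _root_.one_mul, _root_.one_mul]; exact e
  obtain ⟨h1, h2, h3⟩ := cell_inj' H' e'
  refine ⟨t, ?_, h2.symm⟩
  have hp : p = 0 := by simpa using h1.symm
  have hx : x = 0 := by simpa using h3.symm
  rw [hc, hp, hx, Datum.u_zero, Datum.v_zero, _root_.one_mul, _root_.mul_one]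
  rfl

end GrothLib.RankCell14
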