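import Groth.Agent.Lib.RankOne.Concrete
import Groth.Agent.Lib.CentralTor14.Rigid
import Mathlib.RingTheory.Polynomial.Basic
import Mathlib.RingTheory.Localization.Away.Basic

/-!
Coordinates on the big cell, geometric points, and functions determined by their values on units.
-/

universe u

open CategoryTheory MonoidalCategory CartesianMonoidalCategory MonObj GrpObj AlgebraicGeometry
open CategoryTheory.Limits Opposite

set_option backward.isDefEq.respectTransparency false

namespace GrothLib.RankCell14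

open GrothLib.RedPts

variable {S : Scheme.{u}}

theorem specMap_appTop {R R' : CommRingCat.{u}} (φ : R ⟶ R') (c : R) :
    (Spec.map φ).appTop ((Scheme.ΓSpecIso R).inv c) = (Scheme.ΓSpecIso R').inv (φ c) :=
  (congrArg (fun f => (ConcreteCategory.hom f) c) (Scheme.ΓSpecIso_inv_naturality φ)).symm

/-- The functions on the spectrum of a field form a field. -/
theorem isField_spec (K : Type u) [Field K] : IsField Γ(Spec (CommRingCat.of K), ⊤) :=
  ((Scheme.ΓSpecIso (CommRingCat.of K)).commRingCatIsoToRingEquiv).toMulEquiv.isField (Field.toIsField K)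

theorem isUnit_or_eq_zero {K : Type u} [Field K] (a : Γ(Spec (CommRingCat.of K), ⊤)) : IsUnit a ∨ a = 0 := by
  by_cases h : a = 0
  · exact Or.inr h
  · obtain ⟨b, hb⟩ := (isField_spec K).mul_inv_cancel h
    exact Or.inl (IsUnit.of_mul_eq_one b hb)

/-- An open subset containing every geometric point is everything. -/
theorem mem_of_geomPts {X : Over S} [LocallyOfFiniteType X.hom] (U : Set X.left) (hU : IsOpen U)
    (h : ∀ (s : S) (x : Over.mk (Red.geomPt s) ⟶ X), x.left.base (IsLocalRing.closedPoint _) ∈ U)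
    (z : X.left) : z ∈ U := by
  by_contra hz
  let s := X.hom z
  let K := AlgebraicClosure (S.residueField s)
  have hs : (Red.geomPt s).base (IsLocalRing.closedPoint K) = s := by
    rw [Scheme.Hom.comp_apply]; exact Scheme.fromSpecResidueField_apply s _
  obtain ⟨w, hw, -⟩ := Scheme.Pullback.exists_preimage_pullback (f := X.hom) (g := Red.geomPt s) z
    (IsLocalRing.closedPoint K) hs.symm
  haveI := LocallyOfFiniteType.jacobsonSpace (pullback.snd X.hom (Red.geomPt s))
  have hC : IsLocallyClosed ((pullback.fst X.hom (Red.geomPt s)).base ⁻¹' Uᶜ) :=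
    (hU.isClosed_compl.preimage (pullback.fst X.hom (Red.geomPt s)).base.hom.continuous).isLocallyClosed
  obtain ⟨y, hy, hyc⟩ := nonempty_inter_closedPoints ⟨w, by
    change (pullback.fst X.hom (Red.geomPt s)).base w ∈ Uᶜ
    rw [hw]; exact hz⟩ hC
  let q := pointOfClosedPoint (pullback.snd X.hom (Red.geomPt s)) y hyc
  let x : Over.mk (Red.geomPt s) ⟶ X := Over.homMk (q ≫ pullback.fst _ _) (by
    rw [Category.assoc, pullback.condition, pointOfClosedPoint_comp_assoc]; rfl)
  apply hy
  have := h s x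
  change (pullback.fst X.hom (Red.geomPt s)).base y ∈ U
  rwa [show x.left.base (IsLocalRing.closedPoint K) = (pullback.fst X.hom (Red.geomPt s)).base y from by
    change (q ≫ pullback.fst _ _).base _ = _
    rw [Scheme.Hom.comp_apply, pointOfClosedPoint_apply]] at this

section Cell

variable {G T : Over S} [GrpObj G] (i : T ⟶ G) (pp pm : Red.Ga S ⟶ G)

/-- The big cell map. -/
noncomputable def cell : (Red.Ga S ⊗ T) ⊗ Red.Ga S ⟶ G :=
  ((pm ⊗ₘ i) ⊗ₘ pp) ≫ (μ[G] ▷ G) ≫ μ[G]

theorem cell_apply {X : Over S} (y : X ⟶ Red.Ga S) (t : X ⟶ T) (x : X ⟶ Red.Ga S) :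
    lift (lift y t) x ≫ cell i pp pm = (y ≫ pm) * (t ≫ i) * (x ≫ pp) := by
  simp only [cell, lift_map, lift_map_assoc, lift_whiskerRight_assoc, Hom.mul_def]

theorem cell_inj [IsOpenImmersion (cell i pp pm).left] {X : Over S} {y y' x x' : X ⟶ Red.Ga S} {t t' : X ⟶ T}
    (h : (y ≫ pm) * (t ≫ i) * (x ≫ pp) = (y' ≫ pm) * (t' ≫ i) * (x' ≫ pp)) : y = y' ∧ t = t' ∧ x = x' := by
  haveI : Mono (cell i pp pm) := Over.mono_of_mono_left _
  rw [← cell_apply, ← cell_apply, cancel_mono] at h
  have h1 := congrArg (fun z => z ≫ fst _ _) h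
  simp only [lift_fst] at h1
  exact ⟨by simpa using congrArg (fun z => z ≫ fst _ _) h1, by simpa using congrArg (fun z => z ≫ snd _ _) h1,
    by simpa using congrArg (fun z => z ≫ snd _ _) h⟩

theorem exists_coords [IsOpenImmersion (cell i pp pm).left] {X : Over S} (g : X ⟶ G)
    (hg : ∀ z, g.left.base z ∈ Set.range (cell i pp pm).left.base) :
    ∃ (y : X ⟶ Red.Ga S) (t : X ⟶ T) (x : X ⟶ Red.Ga S), g = (y ≫ pm) * (t ≫ i) * (x ≫ pp) := by
  let l := IsOpenImmersion.lift (cell i pp pm).left g.left (Set.range_subset_iff.mpr hg)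
  have hl : l ≫ (cell i pp pm).left = g.left := IsOpenImmersion.lift_fac _ _ _
  let c : X ⟶ (Red.Ga S ⊗ T) ⊗ Red.Ga S := Over.homMk l (by
    rw [← Over.w (cell i pp pm), ← Category.assoc, hl, Over.w])
  have hc : c ≫ cell i pp pm = g := Over.OverMorphism.ext hl
  refine ⟨c ≫ fst _ _ ≫ fst _ _, c ≫ fst _ _ ≫ snd _ _, c ≫ snd _ _, ?_⟩
  rw [← cell_apply, ← hc]
  congr 1
  apply CartesianMonoidalCategory.hom_ext
  · apply CartesianMonoidalCategory.hom_ext <;> simp
  · simp

theorem mem_range_cell {X : Over S} {g : X ⟶ G} {y : X ⟶ Red.Ga S} {t : X ⟶ T} {x : X ⟶ Red.Ga S}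
    (hg : g = (y ≫ pm) * (t ≫ i) * (x ≫ pp)) (z : X.left) :
    g.left.base z ∈ Set.range (cell i pp pm).left.base := by
  refine ⟨(lift (lift y t) x).left.base z, ?_⟩
  rw [← cell_apply] at hg
  rw [hg, Over.comp_left, Scheme.Hom.comp_apply]

end Cell

section Density

/-- Points of the additive group agreeing on an epimorphism agree. -/
theorem appTop_injective_of_epi {X' X : Over S} (h : X' ⟶ X) [Epi h] :
    Function.Injective h.left.appTop := by
  intro a b hab
  have h1 : h ≫ (gaPt a : X ⟶ Red.Ga S) = h ≫ gaPt b := gaFn_injective (by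
    rw [gaFn_comp, gaFn_comp, gaFn_gaPt, gaFn_gaPt, hab])
  have h2 := congrArg Red.gaFn ((cancel_epi h).mp h1)
  rwa [gaFn_gaPt, gaFn_gaPt] at h2

/-- Functions are equal when they are so on the members of an open cover. -/
theorem eq_of_cover {X : Over S} (𝒰 : X.left.OpenCover) {a b : Γ(X.left, ⊤)}
    (h : ∀ j, (𝒰.f j).appTop a = (𝒰.f j).appTop b) : a = b := by
  have h1 : (gaPt a : X ⟶ Red.Ga S) = gaPt b := by
    apply Over.OverMorphism.ext
    refine 𝒰.hom_ext _ _ fun j => ?_
    have h2 : (Over.homMk (𝒰.f j) rfl : Over.mk (𝒰.f j ≫ X.hom) ⟶ X) ≫ gaPt a =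
        (Over.homMk (𝒰.f j) rfl : Over.mk (𝒰.f j ≫ X.hom) ⟶ X) ≫ gaPt b := gaFn_injective (by
      rw [gaFn_comp, gaFn_comp, gaFn_gaPt, gaFn_gaPt]; exact h j)
    exact congrArg Over.Hom.left h2
  have h2 := congrArg Red.gaFn h1
  rwa [gaFn_gaPt, gaFn_gaPt] at h2

/-- A natural function which vanishes on units vanishes. -/
theorem eq_zero_of_units (F : ∀ (X : Over S), Γ(X.left, ⊤) → Γ(X.left, ⊤))
    (hF : ∀ {X' X : Over S} (h : X' ⟶ X) (a : Γ(X.left, ⊤)), h.left.appTop (F X a) = F X' (h.left.appTop a))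
    (hu : ∀ (X : Over S) (a : Γ(X.left, ⊤)), IsUnit a → F X a = 0) (X : Over S) (a : Γ(X.left, ⊤)) :
    F X a = 0 := by
  suffices key : ∀ (R : CommRingCat.{u}) (f : Spec R ⟶ S) (r : R),
      F (Over.mk f) ((Scheme.ΓSpecIso R).inv r) = 0 by
    refine eq_of_cover X.left.affineCover fun j => ?_
    rw [map_zero]
    refine (hF (Over.homMk (X.left.affineCover.f j) rfl : Over.mk (X.left.affineCover.f j ≫ X.hom) ⟶ X) a).trans ?_
    have h2 := key _ (X.left.affineCover.f j ≫ X.hom)
      ((Scheme.ΓSpecIso _).hom ((X.left.affineCover.f j).appTop a))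
    have h3 : (Scheme.ΓSpecIso _).inv ((Scheme.ΓSpecIso _).hom ((X.left.affineCover.f j).appTop a)) =
        (X.left.affineCover.f j).appTop a :=
      congrArg (fun g => (ConcreteCategory.hom g) ((X.left.affineCover.f j).appTop a)) (Scheme.ΓSpecIso _).hom_inv_id
    rwa [h3] at h2
  intro R f r
  let P : CommRingCat.{u} := CommRingCat.of (Polynomial R)
  let L : CommRingCat.{u} := CommRingCat.of (Localization.Away (Polynomial.X : Polynomial R))
  let cR : R ⟶ P := CommRingCat.ofHom Polynomial.C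
  let loc : P ⟶ L := CommRingCat.ofHom (algebraMap (Polynomial R) (Localization.Away (Polynomial.X : Polynomial R)))
  let ev : P ⟶ R := CommRingCat.ofHom (Polynomial.evalRingHom r)
  let Y : Over S := Over.mk (Spec.map cR ≫ f)
  let ρ : Over.mk f ⟶ Y := Over.homMk (Spec.map ev) (by
    change Spec.map ev ≫ Spec.map cR ≫ f = f
    rw [← Category.assoc, ← Spec.map_comp, show cR ≫ ev = 𝟙 R from by ext x; exact Polynomial.eval_C,
      Spec.map_id, Category.id_comp])
  let ℓ : Over.mk (Spec.map loc ≫ Spec.map cR ≫ f) ⟶ Y := Over.homMk (Spec.map loc) rfl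
  let x₀ : Γ(Y.left, ⊤) := (Scheme.ΓSpecIso P).inv (Polynomial.X : Polynomial R)
  have hx : ρ.left.appTop x₀ = (Scheme.ΓSpecIso R).inv r :=
    (specMap_appTop ev _).trans (congrArg _ Polynomial.eval_X)
  have h0 : ℓ.left.appTop (F Y x₀) = 0 := by
    rw [hF ℓ x₀]
    refine hu _ _ ?_
    rw [show ℓ.left.appTop x₀ = (Scheme.ΓSpecIso L).inv (loc (Polynomial.X : Polynomial R)) from specMap_appTop loc _]
    exact (IsLocalization.Away.algebraMap_isUnit (Polynomial.X : Polynomial R)).map (Scheme.ΓSpecIso L).inv.hom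
  obtain ⟨p, hp⟩ : ∃ p : P, (Scheme.ΓSpecIso P).inv p = F Y x₀ :=
    ⟨(Scheme.ΓSpecIso P).hom (F Y x₀), congrArg (fun g => (ConcreteCategory.hom g) (F Y x₀)) (Scheme.ΓSpecIso P).hom_inv_id⟩
  rw [← hp, show ℓ.left.appTop ((Scheme.ΓSpecIso P).inv p) = (Scheme.ΓSpecIso L).inv (loc p) from specMap_appTop loc _] at h0
  have hinj : Function.Injective (loc : P → L) :=
    IsLocalization.injective (Localization.Away (Polynomial.X : Polynomial R))
      (Submonoid.powers_le.mpr Polynomial.monic_X.mem_nonZeroDivisors)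
  have hp0 : p = 0 := hinj (by
    rw [map_zero]
    exact (Scheme.ΓSpecIso L).commRingCatIsoToRingEquiv.symm.injective (h0.trans (map_zero _).symm))
  rw [← hx, ← hF ρ x₀, ← hp, hp0, map_zero, map_zero]

end Density

end GrothLib.RankCell14
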