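import Groth.Agent.Lib.RankCell14.Centralizer
import Groth.Agent.Lib.TorusNorm25.Torus

/-!
Points inverting a power of the coroot.
-/

universe u

open CategoryTheory MonoidalCategory CartesianMonoidalCategory MonObj GrpObj AlgebraicGeometry
open CategoryTheory.Limits Opposite

set_option backward.isDefEq.respectTransparency false

namespace GrothLib.RankCell14

open GrothLib.RedPts GrothLib.RankOne

variable {S : Scheme.{u}} {G T : Over S} [GrpObj G] [GrpObj T] {i : T ⟶ G} {α : T ⟶ Red.Gm S}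
  {pp pm : Red.Ga S ⟶ G} {av : Red.Gm S ⟶ T}

theorem lft_of_smooth {G : Over S} (h : Smooth G.hom) : LocallyOfFiniteType G.hom := by
  haveI := h
  infer_instance

theorem zpow_C (H : Hyp i α pp pm av) {X : Over S} (z : X ⟶ Red.Gm S) (n : ℤ) :
    ((z ≫ av) ^ n) ≫ i = (H.datum X).C (GmPts.unitOfPt z ^ n) := by
  haveI := H.monI
  rw [show ((z ≫ av) ^ n) ≫ i = ((z ≫ av) ≫ i) ^ n from map_zpow (postHom i X) _ n, Category.assoc, H.C_eq',
    map_zpow]

/-- A hypothesis at all points of the multiplicative group, turned into one at all units and a natural exponent. -/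
theorem exists_nat_pow (H : Hyp i α pp pm av) {n : ℤ} (hn : n ≠ 0) (P : ∀ X : Over S, (X ⟶ G) → Prop)
    (h : ∀ (X : Over S) (z : X ⟶ Red.Gm S), P X (((z ≫ av) ^ n) ≫ i)) :
    ∃ N : ℕ, 0 < N ∧ ∀ (X : Over S) (l : Units Γ(X.left, ⊤)), P X ((H.datum X).C (l ^ N)) := by
  refine ⟨n.natAbs, Int.natAbs_pos.mpr hn, fun X l => ?_⟩
  rcases Int.natAbs_eq n with e | e
  · have h1 := h X (GmPts.ptOfUnit l)
    rw [zpow_C H, GmPts.unitOfPt_ptOfUnit, e, zpow_natCast] at h1
    exact h1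
  · have h1 := h X (GmPts.ptOfUnit l⁻¹)
    rw [zpow_C H, GmPts.unitOfPt_ptOfUnit, e, zpow_neg, zpow_natCast, inv_pow, _root_.inv_inv] at h1
    exact h1

/-- No point of the torus over a non-empty base inverts a power of the coroot. -/
theorem not_torus_of_inverts (H : Hyp i α pp pm av) (hT : Red.IsTorus T) {N : ℕ} (hN : 0 < N) {X : Over S}
    (hX : (1 : Γ(X.left, ⊤)) ≠ 0) (t : X ⟶ T)
    (h : ∀ (X' : Over S) (y : X' ⟶ X) (l : Units Γ(X'.left, ⊤)),
      (y ≫ t ≫ i) * (H.datum X').C (l ^ N) * (y ≫ t ≫ i)⁻¹ = ((H.datum X').C (l ^ N))⁻¹) [Mono i] : False := by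
  haveI := H.monI
  apply hX
  refine eq_zero_of_unit_pow 1 (M := 4 * N) (by omega) fun X' y l => ?_
  rw [map_one, _root_.mul_one]
  have e := h X' y l
  rw [show y ≫ t ≫ i = (H.datum X').i (y ≫ t) from (Category.assoc _ _ _).symm] at e
  simp only [Datum.C, MonoidHom.coe_comp, Function.comp_apply, ← map_inv, ← map_mul] at e
  have e' : (y ≫ t) * (H.datum X').av (l ^ N) * (y ≫ t)⁻¹ = (H.datum X').av (l ^ N)⁻¹ := (cancel_mono i).mp e
  rw [comm_torus hT (y ≫ t), mul_inv_cancel_right] at e'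
  have e2 := congrArg (H.datum X').χ e'
  rw [(H.datum X').χav, (H.datum X').χav] at e2
  have e3 : (l ^ N) * (l ^ N) * ((l ^ N) * (l ^ N)) = 1 := by
    nth_rewrite 1 [e2]
    group
  have e4 := congrArg (fun v : Units Γ(X'.left, ⊤) => (v : Γ(X'.left, ⊤))) e3
  simp only [Units.val_mul, Units.val_pow_eq_pow_val, Units.val_one] at e4
  rw [← e4]; ring

/-- A point inverting a power of the coroot is a Weyl element times a point of the torus. -/
theorem exists_eq_w_mul (H : Hyp i α pp pm av) (hT : Red.IsTorus T) [IsOpenImmersion (cell i pp pm).left]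
    [LocallyOfFiniteType G.hom] (hconn : ∀ s : S, ConnectedSpace (Red.geomFibre s G).left) {N : ℕ} (hN : 0 < N)
    (w : 𝟙_ (Over S) ⟶ G)
    (hw : ∀ (X : Over S) (l : Units Γ(X.left, ⊤)),
      (toUnit X ≫ w) * (H.datum X).C (l ^ N) * (toUnit X ≫ w)⁻¹ = ((H.datum X).C (l ^ N))⁻¹) :
    ∃ t : 𝟙_ (Over S) ⟶ T, w = (H.datum _).w 1 * (t ≫ i) := by
  obtain ⟨t, ht⟩ := torus_of_commute H hT hconn hN (((H.datum _).w 1)⁻¹ * w) (fun X' y l => by
    have e := hw X' l
    rw [toUnit_unique (toUnit X') y, mul_inv_eq_iff_eq_mul] at e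
    rw [MonObj.comp_mul, GrpObj.comp_inv, w1_comp, _root_.mul_assoc, e]
    have hc := C_w_one (H.datum X') (l ^ N)⁻¹
    rw [map_inv, _root_.inv_inv] at hc
    rw [← _root_.mul_assoc, ← _root_.mul_assoc]
    congr 1
    rw [eq_inv_mul_iff_mul_eq, ← _root_.mul_assoc, ← hc, mul_inv_cancel_right])
  exact ⟨t, by rw [ht, mul_inv_cancel_left]⟩

end GrothLib.RankCell14
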