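import Groth.Agent.Lib.RankCell14.Inverts
import Groth.Agent.Lib.RankCell14.Weight
import Mathlib.Tactic.TFAE

/-!
Homomorphisms of rank-one systems on the cell and on the Weyl elements.
-/

universe u

open CategoryTheory MonoidalCategory CartesianMonoidalCategory MonObj GrpObj AlgebraicGeometry
open CategoryTheory.Limits Opposite

set_option backward.isDefEq.respectTransparency false

namespace GrothLib.RankCell14

open GrothLib.RedPts GrothLib.RankOne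

variable {S : Scheme.{u}}

section Alg

variable {A : Type*} [CommRing A] {Ti : Type*} [Group Ti] {Q : Type*} [Group Q] (D : Datum A Ti Q)

/-- A translate of a Weyl element by the torus with the rank-one relation is the Weyl element. -/
theorem torus_eq_one_of_rel (inj : ∀ (a a' b b' : A) (t t' : Ti),
      D.v a * D.i t * D.u b = D.v a' * D.i t' * D.u b' → a = a' ∧ t = t' ∧ b = b')
    (x : Aˣ) (hwu : ∀ c : A, D.w x * D.u c * (D.w x)⁻¹ = D.v (-((x⁻¹ : Aˣ) * (x⁻¹ : Aˣ) * c))) (t : Ti)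
    (h : D.w x * D.i t * D.u x * (D.w x * D.i t)⁻¹ = (D.u x)⁻¹ * (D.w x * D.i t) * (D.u x)⁻¹) : t = 1 := by
  have l : D.w x * D.i t * D.u x * (D.w x * D.i t)⁻¹ =
      D.v (-((x⁻¹ : Aˣ) * (x⁻¹ : Aˣ) * ((D.χ t : A) * x))) * D.i 1 * D.u 0 := by
    rw [← hwu, map_one, D.u_zero, _root_.mul_one, _root_.mul_one, _root_.mul_assoc (D.w x), D.i_u]
    group
  have r : (D.u x)⁻¹ * (D.w x * D.i t) * (D.u x)⁻¹ =
      D.v (-(x⁻¹ : Aˣ)) * D.i t * D.u (((D.χ t)⁻¹ : Aˣ) * x + -(x : A)) := by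
    rw [D.u_add, D.u_neg]
    have := D.u_i t x
    calc _ = D.v (-(x⁻¹ : Aˣ)) * (D.u x * D.i t) * (D.u x)⁻¹ := by simp only [Datum.w]; group
      _ = _ := by rw [this]; group
  rw [l, r] at h
  exact (inj _ _ _ _ _ _ h).2.1.symm

theorem v_eq_conj (hwu : ∀ c : A, D.w 1 * D.u c * (D.w 1)⁻¹ = D.v (-c)) (b : A) :
    D.v b = D.w 1 * D.u (-b) * (D.w 1)⁻¹ := by
  rw [hwu, neg_neg]

end Alg

variable {G T G' T' : Over S} [GrpObj G] [GrpObj T] [GrpObj G'] [GrpObj T'] {i : T ⟶ G} {α : T ⟶ Red.Gm S}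
  {pp pm : Red.Ga S ⟶ G} {av : Red.Gm S ⟶ T} {i' : T' ⟶ G'} {α' : T' ⟶ Red.Gm S}
  {pp' pm' : Red.Ga S ⟶ G'} {av' : Red.Gm S ⟶ T'} (H : Hyp i α pp pm av) (H' : Hyp i' α' pp' pm' av')

theorem w_conj_u_one {Y : Over S} (c : Γ(Y.left, ⊤)) :
    (H.datum Y).w 1 * (H.datum Y).u c * ((H.datum Y).w 1)⁻¹ = (H.datum Y).v (-c) := by
  have e := H.w_conj_u (Y := Y) 1 c
  simpa only [inv_one, Units.val_one, _root_.one_mul] using e

/-- The value of a point of the multiplicative group over the base, as a unit on every scheme. -/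
noncomputable def cst (c : 𝟙_ (Over S) ⟶ Red.Gm S) (X : Over S) : Units Γ(X.left, ⊤) :=
  GmPts.unitOfPt (toUnit X ≫ c)

theorem cst_val (c : 𝟙_ (Over S) ⟶ Red.Gm S) (X : Over S) :
    (cst c X : Γ(X.left, ⊤)) = Red.gmFn (toUnit X ≫ c) := rfl

variable (q : ℕ) (c : 𝟙_ (Over S) ⟶ Red.Gm S) (f : G ⟶ G') [IsMonHom f]

/-- The positive root group is mapped by `a ↦ c a ^ q`. -/
def MapsU : Prop := ∀ (X : Over S) (a : Γ(X.left, ⊤)),
  (H.datum X).u a ≫ f = (H'.datum X).u ((cst c X : Γ(X.left, ⊤)) * a ^ q)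

/-- The negative root group is mapped by `b ↦ c⁻¹ b ^ q`. -/
def MapsV : Prop := ∀ (X : Over S) (b : Γ(X.left, ⊤)),
  (H.datum X).v b ≫ f = (H'.datum X).v (((cst c X)⁻¹ : Units Γ(X.left, ⊤)) * b ^ q)

/-- The coroot is mapped to the `q`-th power of the coroot. -/
def MapsC : Prop := ∀ (X : Over S) (l : Units Γ(X.left, ⊤)), (H.datum X).C l ≫ f = (H'.datum X).C (l ^ q)

/-- The Weyl elements are mapped to Weyl elements. -/
def MapsW : Prop := ∀ (X : Over S) (x : Units Γ(X.left, ⊤)), (H.datum X).w x ≫ f = (H'.datum X).w (cst c X * x ^ q)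

variable {H H' q c f}

theorem neg_one_pow_q (hq0 : 0 < q) (hq : ∀ (X : Over S) (a b : Γ(X.left, ⊤)), (a + b) ^ q = a ^ q + b ^ q)
    {X : Over S} (a : Γ(X.left, ⊤)) : (-a) ^ q = -(a ^ q) := by
  have h := hq X a (-a)
  rw [add_neg_cancel, zero_pow hq0.ne'] at h
  exact eq_neg_of_add_eq_zero_right h.symm

theorem post_mul {X : Over S} (x y : X ⟶ G) : (x * y) ≫ f = (x ≫ f) * (y ≫ f) := map_mul (postHom f X) x y

theorem post_inv {X : Over S} (x : X ⟶ G) : x⁻¹ ≫ f = (x ≫ f)⁻¹ := map_inv (postHom f X) x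

theorem mapsW_of_mapsV (hq0 : 0 < q) (hq : ∀ (X : Over S) (a b : Γ(X.left, ⊤)), (a + b) ^ q = a ^ q + b ^ q)
    (hU : MapsU H H' q c f) (hV : MapsV H H' q c f) : MapsW H H' q c f := by
  intro X x
  simp only [Datum.w, post_mul, hU X, hV X, neg_one_pow_q hq0 hq, _root_.mul_inv, Units.val_mul,
    Units.val_pow_eq_pow_val, ← inv_pow, mul_neg]

theorem mapsC_of_mapsW (hW : MapsW H H' q c f) : MapsC H H' q f := by
  intro X l
  have e : (H.datum X).C l = (H.datum X).w l * ((H.datum X).w 1)⁻¹ := by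
    rw [eq_mul_inv_iff_mul_eq, ← Datum.w_mul_left, _root_.mul_one]
  rw [e, post_mul, post_inv, hW X, hW X, one_pow, _root_.mul_one, mul_inv_eq_iff_eq_mul, ← Datum.w_mul_left,
    mul_comm]

theorem mapsV_of_mapsW (hq0 : 0 < q) (hq : ∀ (X : Over S) (a b : Γ(X.left, ⊤)), (a + b) ^ q = a ^ q + b ^ q)
    (hU : MapsU H H' q c f) (hW : MapsW H H' q c f) : MapsV H H' q c f := by
  intro X b
  rw [v_eq_conj _ (w_conj_u_one H) b, post_mul, post_mul, post_inv, hW X, hU X, H'.w_conj_u, one_pow,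
    _root_.mul_one, neg_one_pow_q hq0 hq]
  congr 1
  have h1 : ((cst c X)⁻¹ : Units Γ(X.left, ⊤)) * (cst c X : Γ(X.left, ⊤)) = 1 := (cst c X).inv_mul
  linear_combination (((cst c X)⁻¹ : Units Γ(X.left, ⊤)) * b ^ q) * h1

theorem mapsW_of_mapsC (hT' : Red.IsTorus T') [IsOpenImmersion (cell i' pp' pm').left]
    [LocallyOfFiniteType G'.hom] (hconn : ∀ s : S, ConnectedSpace (Red.geomFibre s G').left) (hq0 : 0 < q)
    (hU : MapsU H H' q c f) (hC : MapsC H H' q f) : MapsW H H' q c f := by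
  haveI := H'.monI
  obtain ⟨t₀, ht₀⟩ := exists_eq_w_mul H' hT' hconn hq0 ((H.datum (𝟙_ (Over S))).w 1 ≫ f) (fun X l => by
    rw [← Category.assoc, w1_comp, ← hC X, ← post_inv, ← post_inv, ← post_mul, ← post_mul]
    refine congrArg (fun z => z ≫ f) ?_
    rw [mul_inv_eq_iff_eq_mul]
    have h := C_w_one (H.datum X) l⁻¹
    rw [map_inv, _root_.inv_inv] at h
    exact h.symm)
  obtain ⟨t₁, ht₁⟩ : ∃ t₁ : 𝟙_ (Over S) ⟶ T', t₁ = ((H'.datum _).av (cst c (𝟙_ (Over S))))⁻¹ * t₀ := ⟨_, rfl⟩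
  let D := H.datum (𝟙_ (Over S))
  let D' := H'.datum (𝟙_ (Over S))
  let γ₀ := cst c (𝟙_ (Over S))
  have hh : D.w 1 ≫ f = D'.w γ₀ * D'.i (D'.av γ₀ * t₀) := by
    rw [ht₀, map_mul, ← _root_.mul_assoc]
    congr 1
    rw [show D'.w γ₀ = D'.w 1 * (D'.C γ₀)⁻¹ by rw [← D'.w_mul_right, _root_.mul_one]]
    exact (inv_mul_cancel_right _ _).symm
  have hu1 : D.u 1 ≫ f = D'.u γ₀ := by rw [hU, one_pow, _root_.mul_one]
  have ht : D'.av γ₀ * t₀ = 1 := by
    refine torus_eq_one_of_rel D' (fun _ _ _ _ _ _ h => cell_inj' H' h) γ₀ (H'.w_conj_u γ₀) _ ?_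
    rw [← hh, ← hu1, ← post_inv, ← post_inv, ← post_mul, ← post_mul, ← post_mul, ← post_mul]
    refine congrArg (fun z => z ≫ f) ?_
    rw [w_conj_u_one H (1 : Γ((𝟙_ (Over S)).left, ⊤))]
    change D.v (-1) = _
    simp only [Datum.w, Units.val_one, inv_one]
    group
  intro X x
  have h1 : (H.datum X).w 1 ≫ f = (H'.datum X).w (cst c X) := by
    have e := congrArg (toUnit X ≫ ·) hh
    simp only [ht, map_one, _root_.mul_one] at e
    rw [← Category.assoc, w1_comp] at e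
    rw [e]
    simp only [D', γ₀, Datum.w, MonObj.comp_mul, Hyp.u_comp, Hyp.v_comp]
    have hc : (toUnit X).left.appTop (cst c (𝟙_ (Over S)) : Γ((𝟙_ (Over S)).left, ⊤)) = (cst c X : Γ(X.left, ⊤)) := by
      rw [cst_val, cst_val, ← GmPts.gmFn_comp]
      congr 1
    have hci : (toUnit X).left.appTop (((cst c (𝟙_ (Over S)))⁻¹ : Units _) : Γ((𝟙_ (Over S)).left, ⊤)) =
        (((cst c X)⁻¹ : Units Γ(X.left, ⊤)) : Γ(X.left, ⊤)) :=
      Units.eq_inv_of_mul_eq_one_left (by rw [← hc, ← map_mul, Units.mul_inv, map_one])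
    rw [hc, map_neg, hci]
  rw [show x = x * 1 from (_root_.mul_one x).symm, Datum.w_mul_left, post_mul, hC X, h1, _root_.mul_one,
    mul_comm (cst c X), Datum.w_mul_left]

theorem tfae (hT' : Red.IsTorus T') [IsOpenImmersion (cell i' pp' pm').left] [LocallyOfFiniteType G'.hom]
    (hconn : ∀ s : S, ConnectedSpace (Red.geomFibre s G').left) (hq0 : 0 < q)
    (hq : ∀ (X : Over S) (a b : Γ(X.left, ⊤)), (a + b) ^ q = a ^ q + b ^ q) (hU : MapsU H H' q c f) :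
    [MapsC H H' q f, MapsW H H' q c f, MapsV H H' q c f].TFAE := by
  tfae_have 1 → 2 := mapsW_of_mapsC hT' hconn hq0 hU
  tfae_have 2 → 1 := mapsC_of_mapsW
  tfae_have 2 → 3 := mapsV_of_mapsW hq0 hq hU
  tfae_have 3 → 2 := mapsW_of_mapsV hq0 hq hU
  tfae_finish

/-- The statements on points. -/
theorem mapsC_iff : MapsC H H' q f ↔
    ∀ (X : Over S) (z : X ⟶ Red.Gm S), (z ≫ av ≫ i) ≫ f = ((z ≫ av') ^ q) ≫ i' := by
  constructor
  · intro h X z
    rw [H.C_eq', h X, show ((z ≫ av') ^ q) ≫ i' = ((z ≫ av') ^ (q : ℤ)) ≫ i' by rw [zpow_natCast], zpow_C H',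
      zpow_natCast]
  · intro h X l
    have e := h X (GmPts.ptOfUnit l)
    rw [H.C_eq', GmPts.unitOfPt_ptOfUnit, show ((GmPts.ptOfUnit l ≫ av') ^ q) ≫ i' =
      ((GmPts.ptOfUnit l ≫ av') ^ (q : ℤ)) ≫ i' by rw [zpow_natCast], zpow_C H', GmPts.unitOfPt_ptOfUnit,
      zpow_natCast] at e
    exact e

theorem mapsU_iff : MapsU H H' q c f ↔ ∀ (X : Over S) (x y : X ⟶ Red.Ga S),
    Red.gaFn y = Red.gmFn (toUnit X ≫ c) * Red.gaFn x ^ q → (x ≫ pp) ≫ f = y ≫ pp' := by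
  constructor
  · intro h X x y hy
    rw [H.u_eq, H'.u_eq, h X, hy, cst_val]
  · intro h X a
    exact h X (gaPt a) (gaPt _) (by rw [gaFn_gaPt, gaFn_gaPt, cst_val])

theorem mapsV_iff : MapsV H H' q c f ↔ ∀ (X : Over S) (x y : X ⟶ Red.Ga S),
    Red.gaFn y * Red.gmFn (toUnit X ≫ c) = Red.gaFn x ^ q → (x ≫ pm) ≫ f = y ≫ pm' := by
  constructor
  · intro h X x y hy
    rw [H.v_eq, H'.v_eq, h X, ← hy, ← cst_val, mul_comm (Red.gaFn y), Units.inv_mul_cancel_left]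
  · intro h X b
    exact h X (gaPt b) (gaPt _) (by rw [gaFn_gaPt, gaFn_gaPt, ← cst_val, mul_right_comm, Units.inv_mul,
      _root_.one_mul])

theorem mapsW_iff (hq0 : 0 < q) (hq : ∀ (X : Over S) (a b : Γ(X.left, ⊤)), (a + b) ^ q = a ^ q + b ^ q) :
    MapsW H H' q c f ↔ ∀ (X : Over S) (x x' y y' : X ⟶ Red.Ga S), Red.gaFn x' * Red.gaFn x = -1 →
      Red.gaFn y = Red.gmFn (toUnit X ≫ c) * Red.gaFn x ^ q → Red.gaFn y' * Red.gaFn y = -1 →
      ((x ≫ pp) * (x' ≫ pm) * (x ≫ pp)) ≫ f = (y ≫ pp') * (y' ≫ pm') * (y ≫ pp') := by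
  constructor
  · intro h X x x' y y' hx hy hy'
    obtain ⟨u, hu, -, hw⟩ := H.w_eq x x' hx
    obtain ⟨v, hv, -, hw'⟩ := H'.w_eq y y' hy'
    rw [hw, hw', h X]
    congr 1
    exact Units.ext (by rw [Units.val_mul, Units.val_pow_eq_pow_val, hu, hv, hy, cst_val])
  · intro h X u
    have e := h X (gaPt u) (gaPt (-((u⁻¹ : Units Γ(X.left, ⊤)) : Γ(X.left, ⊤))))
      (gaPt ((cst c X * u ^ q : Units Γ(X.left, ⊤)) : Γ(X.left, ⊤)))
      (gaPt (-(((cst c X * u ^ q)⁻¹ : Units Γ(X.left, ⊤)) : Γ(X.left, ⊤))))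
      (by rw [gaFn_gaPt, gaFn_gaPt, neg_mul, Units.inv_mul])
      (by rw [gaFn_gaPt, gaFn_gaPt, Units.val_mul, Units.val_pow_eq_pow_val, cst_val])
      (by rw [gaFn_gaPt, gaFn_gaPt, neg_mul, Units.inv_mul])
    exact e

end GrothLib.RankCell14
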